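import Groth.Agent.Lib.StalkCrit24.StalkCrit

/-!
# Base change maps on germs of cocycles
-/

set_option autoImplicit false
set_option linter.style.haveILetI false
set_option linter.unusedSectionVars false
set_option backward.isDefEq.respectTransparency false
set_option backward.isDefEq.respectTransparency.types false

universe u

open CategoryTheory CategoryTheory.Limits AlgebraicGeometry Opposite HomologicalComplex

namespace Groth.Agent.StalkLim24

open Groth.Agent.EtStalk Groth.Agent.StalkCrit24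

variable {X S Y T : Scheme.{u}} (f : X ⟶ S) (g : T ⟶ S) (h : Y ⟶ X) (e : Y ⟶ T) (w : e ≫ g = h ≫ f)

/-- Moving a map into a direct image around a square. -/
noncomputable def sqPush {I : EtCoh.Ab T} {J : EtCoh.Ab Y} (β : I ⟶ (EtCoh.push e).obj J) :
    (EtCoh.push g).obj I ⟶ (EtCoh.push f).obj ((EtCoh.push h).obj J) :=
  (EtCoh.push g).map β ≫ (EtCoh.pushComp g e).hom.app J ≫ (EtCoh.pushCongr w).hom.app J ≫
    (EtCoh.pushComp f h).inv.app J

lemma sqPush_unit {F : EtCoh.Ab T} {J : EtCoh.Ab Y} (χ : (EtCoh.pull e).obj F ⟶ J) :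
    (EtCoh.pullPushAdj f).homEquiv _ _ (EtCoh.baseChange0 g f h e w F ≫ (EtCoh.push h).map χ) =
      sqPush f g h e w ((EtCoh.pullPushAdj e).homEquiv _ _ χ) := by
  rw [Adjunction.homEquiv_naturality_right, EtCoh.baseChange0, Equiv.apply_symm_apply, sqPush,
    Adjunction.homEquiv_unit, Functor.map_comp]
  simp only [Category.assoc]
  refine congrArg (fun z => (EtCoh.push g).map ((EtCoh.pullPushAdj e).unit.app F) ≫ z) ?_
  have h1 := (EtCoh.pushComp g e).hom.naturality χ
  have h2 := (EtCoh.pushCongr w).hom.naturality χ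
  have h3 := (EtCoh.pushComp f h).inv.naturality χ
  simp only [Functor.comp_map] at h1 h3
  erw [reassoc_of% h1, reassoc_of% h2, h3]

lemma sqPush_comp {I I' : EtCoh.Ab T} {J J' : EtCoh.Ab Y} (β : I ⟶ (EtCoh.push e).obj J) (a : I' ⟶ I) (b : J ⟶ J') :
    sqPush f g h e w (a ≫ β ≫ (EtCoh.push e).map b) =
      (EtCoh.push g).map a ≫ sqPush f g h e w β ≫ (EtCoh.push f).map ((EtCoh.push h).map b) := by
  simp only [sqPush, Functor.map_comp, Category.assoc]
  refine congrArg (fun z => (EtCoh.push g).map a ≫ (EtCoh.push g).map β ≫ z) ?_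
  have h1 := (EtCoh.pushComp g e).hom.naturality b
  have h2 := (EtCoh.pushCongr w).hom.naturality b
  have h3 := (EtCoh.pushComp f h).inv.naturality b
  simp only [Functor.comp_map] at h1 h3
  erw [reassoc_of% h1, reassoc_of% h2, h3]

variable {Ω : Type u} [Field Ω] [IsSepClosed Ω] (ξ : Spec (CommRingCat.of Ω) ⟶ X)

/-- The base change map on a stalk of the terms. -/
noncomputable def φst {F : EtCoh.Ab T} {J : EtCoh.Ab Y} (χ : (EtCoh.pull e).obj F ⟶ J) :
    (EtCoh.stalk (ξ ≫ f)).obj ((EtCoh.push g).obj F) →+ (EtCoh.stalk ξ).obj ((EtCoh.push h).obj J) :=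
  (((EtCoh.stalk ξ).map (EtCoh.baseChange0 g f h e w F ≫ (EtCoh.push h).map χ)).hom).comp
    (stalkPull f ξ ((EtCoh.push g).obj F)).hom

lemma φst_germ {F : EtCoh.Ab T} {J : EtCoh.Ab Y} (χ : (EtCoh.pull e).obj F ⟶ J) {V : S.Etale} (x : fib (ξ ≫ f) V)
    (s : ((EtCoh.push g).obj F).obj.obj (op V)) :
    φst f g h e w ξ χ (germ (ξ ≫ f) ((EtCoh.push g).obj F) x s) =
      germ ξ ((EtCoh.push h).obj J) (liftFib f ξ x)
        ((sqPush f g h e w ((EtCoh.pullPushAdj e).homEquiv _ _ χ)).hom.app (op V) s) := by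
  show (EtCoh.stalk ξ).map _ (stalkPull f ξ _ (germ (ξ ≫ f) _ x s)) = _
  rw [germ_stalkPull, germ_nat, ← sqPush_unit f g h e w χ, Adjunction.homEquiv_unit]
  rfl

/-- The base change map is an isomorphism iff it is bijective on cocycles at all geometric points. -/
theorem isIso_bcQ_iff_bijCoc [PreservesFiniteLimits (EtCoh.pull e)] {F : EtCoh.Ab T} (I : InjectiveResolution F)
    (J : InjectiveResolution ((EtCoh.pull e).obj F))
    (χ : ((EtCoh.pull e).mapHomologicalComplex (ComplexShape.up ℕ)).obj I.cocomplex ⟶ J.cocomplex)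
    (hχ : (EtCoh.pull e).map (I.ι.f 0) ≫ χ.f 0 = J.ι.f 0) (q : ℕ) :
    IsIso (EtBC.bcQ g f h e w q F) ↔ ∀ (Ω : Type u) [Field Ω] [IsSepClosed Ω] (ξ : Spec (CommRingCat.of Ω) ⟶ X),
      BijCoc (fun k => ((EtCoh.stalk (ξ ≫ f)).map ((EtCoh.push g).map
          (HomologicalComplex.d (c := ComplexShape.up ℕ) I.cocomplex k (k + 1)))).hom)
        (fun k => ((EtCoh.stalk ξ).map ((EtCoh.push h).map
          (HomologicalComplex.d (c := ComplexShape.up ℕ) J.cocomplex k (k + 1)))).hom)
        (fun k => φst f g h e w ξ (χ.f k)) q := by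
  rw [EtBCQ24.isIso_bcQ_iff g f h e w F I J χ hχ q, isIso_iff_stalk]
  refine forall_congr' fun Ω => forall_congr' fun i₁ => forall_congr' fun i₂ => forall_congr' fun ξ => ?_
  haveI : PreservesBinaryBiproducts (EtCoh.stalk ξ) := preservesBinaryBiproducts_of_preservesBinaryProducts _
  haveI : (EtCoh.stalk ξ).Additive := Functor.additive_of_preservesBinaryBiproducts _
  haveI : (EtCoh.stalk ξ).PreservesHomology := inferInstance
  rw [← ConcreteCategory.isIso_iff_bijective, isIso_map_homologyMap_iff' (EtCoh.stalk ξ) (EtCoh.pull f) (EtCoh.push g)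
    (EtCoh.push h) I.cocomplex J.cocomplex (EtBCQ24.ψ g f h e w _ _ χ) _ (fun k => ψ_f f g h e w _ _ χ k) q]
  exact (bijCoc_iff
    (dC := fun k => ((EtCoh.stalk (ξ ≫ f)).map ((EtCoh.push g).map
      (HomologicalComplex.d (c := ComplexShape.up ℕ) I.cocomplex k (k + 1)))).hom)
    (dD := fun k => ((EtCoh.stalk ξ).map ((EtCoh.push h).map
      (HomologicalComplex.d (c := ComplexShape.up ℕ) J.cocomplex k (k + 1)))).hom)
    (φ := fun k => φst f g h e w ξ (χ.f k))
    (fun k => (stalkPull f ξ ((EtCoh.push g).obj (HomologicalComplex.X (c := ComplexShape.up ℕ) I.cocomplex k))).hom)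
    (fun k => ConcreteCategory.bijective_of_isIso (stalkPull f ξ ((EtCoh.push g).obj (HomologicalComplex.X (c := ComplexShape.up ℕ) I.cocomplex k))))
    (fun k x => (stalkPull_natural f ξ ((EtCoh.push g).map
      (HomologicalComplex.d (c := ComplexShape.up ℕ) I.cocomplex k (k + 1))) x).symm)
    (fun k => AddMonoidHom.id _) (fun k => Function.bijective_id) (fun k x => rfl) (fun k x => rfl) q).symm

end Groth.Agent.StalkLim24
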