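import Groth.Agent.Lib.StalkCrit24.TowerPull
import Groth.Agent.Lib.EtLim24.Theorem
import Groth.Agent.Lib.EtLim24.Base

/-!
# Cocycles of global sections on a limit
-/

set_option autoImplicit false
set_option linter.style.haveILetI false
set_option linter.unusedSectionVars false
set_option backward.isDefEq.respectTransparency false
set_option backward.isDefEq.respectTransparency.types false

universe u

open CategoryTheory CategoryTheory.Limits AlgebraicGeometry Opposite CategoryTheory.Abelian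

namespace Groth.Agent.StalkLim24

open Groth.Agent.EtStalk Groth.Agent.StrictLim24 Groth.Agent.StalkCrit24

variable {X : Scheme.{u}}

/-- A term of a resolution. -/
abbrev trm {F : EtCoh.Ab X} (R : InjectiveResolution F) (n : ℕ) : EtCoh.Ab X :=
  HomologicalComplex.X (c := ComplexShape.up ℕ) R.cocomplex n

/-- Sections of a term over an étale scheme. -/
abbrev tsec {F : EtCoh.Ab X} (R : InjectiveResolution F) (V : X.Etale) (n : ℕ) : AddCommGrpCat.{u + 1} :=
  (trm R n).obj.obj (op V)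

/-- The differential on sections. -/
abbrev dsec {F : EtCoh.Ab X} (R : InjectiveResolution F) (V : X.Etale) (n : ℕ) :
    tsec R V n →+ tsec R V (n + 1) :=
  ((HomologicalComplex.d (c := ComplexShape.up ℕ) R.cocomplex n (n + 1)).hom.app (op V)).hom

variable {F : EtCoh.Ab X} (R : InjectiveResolution F)

lemma hac (n k : ℕ) : Subsingleton (Ext (EtCoh.const X ℤ) ((Tower.ofRes R).K n) (k + 1)) :=
  haveI : Injective ((Tower.ofRes R).K n) := R.injective n
  subsingleton_of_forall_eq 0 Ext.eq_zero_of_injective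

lemma dsec_ev (n : ℕ) (w : EtCoh.const X ℤ ⟶ (Tower.ofRes R).K n) :
    dsec R (EtCoh.top X) n (ev (trm R n) w) =
      ev (trm R (n + 1)) (w ≫ (Tower.ofRes R).d n) := by
  rw [Tower.ofComplex_d]
  rfl

lemma bd_ev (n : ℕ) (w : EtCoh.const X ℤ ⟶ (Tower.ofRes R).K n) :
    Bd (dsec R (EtCoh.top X)) n (ev (trm R n) w) ↔ Bd ((Tower.ofRes R).hd (EtCoh.const X ℤ)) n w :=
  bd_iff (dC := (Tower.ofRes R).hd (EtCoh.const X ℤ)) (dC' := dsec R (EtCoh.top X)) (fun k => ev (trm R k))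
    (fun k => bijective_ev _) (fun k w => (dsec_ev R k w).symm) n w

/-- A global cocycle represents a class. -/
def Repr (n : ℕ) (s : tsec R (EtCoh.top X) n) (x : EtCoh.H X F n) : Prop :=
  ∃ y : EtCoh.const X ℤ ⟶ (Tower.ofRes R).Z n, ev (trm R n) (y ≫ (Tower.ofRes R).i n) = s ∧
    (Tower.ofRes R).cl (EtCoh.const X ℤ) n y = x.comp (Ext.mk₀ (Tower.aug R)) (add_zero n)

variable {R}

lemma exists_repr (n : ℕ) (x : EtCoh.H X F n) :
    ∃ s, dsec R (EtCoh.top X) n s = 0 ∧ Repr R n s x := by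
  obtain ⟨y, hy⟩ := (Tower.ofRes R).cl_surjective (hac R) n (x.comp (Ext.mk₀ (Tower.aug R)) (add_zero n))
  refine ⟨_, ?_, y, rfl, hy⟩
  rw [dsec_ev, Category.assoc, Tower.i_d, comp_zero, map_zero]

lemma exists_class (n : ℕ) (s : tsec R (EtCoh.top X) n) (hs : dsec R (EtCoh.top X) n s = 0) :
    ∃ x, Repr R n s x := by
  obtain ⟨w, rfl⟩ := (bijective_ev (trm R n)).2 s
  have hw : w ≫ (Tower.ofRes R).d n = 0 :=
    (bijective_ev (trm R (n + 1))).1 ((dsec_ev R n w).symm.trans (hs.trans (map_zero _).symm))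
  obtain ⟨y, rfl⟩ := (Tower.ofRes R).exists_lift (EtCoh.const X ℤ) n w hw
  obtain ⟨x, hx⟩ := (bijective_comp_mk₀ (EtCoh.const X ℤ) (Tower.aug R) n).2
    ((Tower.ofRes R).cl (EtCoh.const X ℤ) n y)
  exact ⟨x, y, rfl, hx.symm⟩

lemma repr_zero_iff {n : ℕ} {s : tsec R (EtCoh.top X) n} {x : EtCoh.H X F n} (h : Repr R n s x) :
    x = 0 ↔ Bd (dsec R (EtCoh.top X)) n s := by
  obtain ⟨y, rfl, hy⟩ := h
  rw [bd_ev, ← (Tower.ofRes R).cl_eq_zero_iff (EtCoh.const X ℤ) (hac R), hy]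
  refine ⟨fun h0 => by rw [h0, Ext.zero_comp], fun h0 => ?_⟩
  exact (bijective_comp_mk₀ (EtCoh.const X ℤ) (Tower.aug R) n).1 (by simp only [h0, Ext.zero_comp])

lemma repr_sub {n : ℕ} {s s' : tsec R (EtCoh.top X) n} {x x' : EtCoh.H X F n} (h : Repr R n s x)
    (h' : Repr R n s' x') : Repr R n (s - s') (x - x') := by
  obtain ⟨y, rfl, hy⟩ := h
  obtain ⟨y', rfl, hy'⟩ := h'
  exact ⟨y - y', by rw [Preadditive.sub_comp, map_sub], by rw [map_sub, hy, hy', ExtColim.sub_comp]⟩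

/-- Sections pushed by a map into a direct image. -/
noncomputable def psec {A B : Scheme.{u}} (v : A ⟶ B) {G : EtCoh.Ab B} {H : EtCoh.Ab A}
    (β : G ⟶ (EtCoh.push v).obj H) : G.obj.obj (op (EtCoh.top B)) →+ H.obj.obj (op (EtCoh.top A)) :=
  (H.obj.map (topUp v).op).hom.comp (β.hom.app (op (EtCoh.top B))).hom

lemma trSec_symm {A B : Scheme.{u}} (v : A ⟶ B) {G : EtCoh.Ab B} {H : EtCoh.Ab A}
    (β : G ⟶ (EtCoh.push v).obj H) : trSec v (((EtCoh.pullPushAdj v).homEquiv G H).symm β) = psec v β := by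
  simp only [trSec, psec, Equiv.apply_symm_apply]

variable {A B : Scheme.{u}} (v : A ⟶ B) [PreservesFiniteLimits (EtCoh.pull v)] {FB : EtCoh.Ab B} {FA : EtCoh.Ab A}
  {RB : InjectiveResolution FB} {RA : InjectiveResolution FA} (a : FB ⟶ (EtCoh.push v).obj FA)
  (χ : RB.cocomplex ⟶ ((EtCoh.push v).mapHomologicalComplex (ComplexShape.up ℕ)).obj RA.cocomplex)
  (hχ : RB.ι.f 0 ≫ χ.f 0 = a ≫ (EtCoh.push v).map (RA.ι.f 0))

/-- The transpose of a map of complexes. -/
noncomputable def adjChain :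
    ((EtCoh.pull v).mapHomologicalComplex (ComplexShape.up ℕ)).obj RB.cocomplex ⟶ RA.cocomplex where
  f k := ((EtCoh.pullPushAdj v).homEquiv _ _).symm (χ.f k)
  comm' k l _ := by
    refine ((EtCoh.pullPushAdj v).homEquiv_naturality_right_symm _ _).symm.trans ?_
    refine Eq.trans ?_ ((EtCoh.pullPushAdj v).homEquiv_naturality_left_symm _ _)
    exact congrArg ((EtCoh.pullPushAdj v).homEquiv _ _).symm (χ.comm k l)

include hχ in
lemma repr_push {n : ℕ} {s : tsec RB (EtCoh.top B) n} {x : EtCoh.H B FB n} (h : Repr RB n s x) :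
    Repr RA n (psec v (χ.f n) s) (EtLim.HofPush v FA n (x.comp (Ext.mk₀ a) (add_zero n))) := by
  obtain ⟨y, rfl, hy⟩ := h
  let χ' := adjChain v χ
  let hom : Tower.Hom ((Tower.ofRes RB).map (EtCoh.pull v)) (Tower.ofRes RA) :=
    Tower.homOfChain (EtCoh.pull v) RB.cocomplex RB.cocomplex_exactAt_succ RA.cocomplex RA.cocomplex_exactAt_succ χ'
  let P := EtCoh.const B ℤ
  let r := (EtCore.pullConst v ℤ).inv
  refine ⟨r ≫ (EtCoh.pull v).map y ≫ hom.z n, ?_, ?_⟩
  · have hi : (EtCoh.pull v).map ((Tower.ofRes RB).i n) ≫ χ'.f n = hom.z n ≫ (Tower.ofRes RA).i n := hom.hi n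
    have he : (r ≫ (EtCoh.pull v).map y ≫ hom.z n) ≫ (Tower.ofRes RA).i n =
        r ≫ (EtCoh.pull v).map (y ≫ (Tower.ofRes RB).i n) ≫
          ((EtCoh.pullPushAdj v).homEquiv _ _).symm (χ.f n) := by
      rw [Functor.map_comp, Category.assoc, Category.assoc, Category.assoc, ← hi]
      rfl
    rw [he]
    refine (ev_pull v _ _).trans ?_
    rw [trSec_symm]
  · have hz : (EtCoh.pull v).map (Tower.aug RB) ≫ hom.z 0 =
        ((EtCoh.pullPushAdj v).homEquiv _ _).symm a ≫ Tower.aug RA := by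
      refine (cancel_mono (RA.cocomplex.iCycles 0)).1 ?_
      have h0 : (EtCoh.pull v).map (RB.cocomplex.iCycles 0) ≫ χ'.f 0 = hom.z 0 ≫ RA.cocomplex.iCycles 0 := hom.hi 0
      rw [Category.assoc, ← h0, Category.assoc]
      refine Eq.trans ?_ (congrArg (((EtCoh.pullPushAdj v).homEquiv _ _).symm a ≫ ·) (Tower.aug_i RA).symm)
      refine (Category.assoc _ _ _).symm.trans ((congrArg (· ≫ χ'.f 0)
        (((EtCoh.pull v).map_comp _ _).symm.trans (congrArg (EtCoh.pull v).map (Tower.aug_i RB)))).trans ?_)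
      refine ((EtCoh.pullPushAdj v).homEquiv_naturality_left_symm _ _).symm.trans ?_
      refine Eq.trans ?_ ((EtCoh.pullPushAdj v).homEquiv_naturality_right_symm _ _)
      exact congrArg ((EtCoh.pullPushAdj v).homEquiv _ _).symm hχ
    have hn := Tower.cl_naturality hom r n ((EtCoh.pull v).map y)
    refine hn.trans ?_
    rw [← Tower.cl_map, hy, Ext.mapExactFunctor_comp, Ext.mapExactFunctor_mk₀, Ext.comp_assoc_of_third_deg_zero,
      Ext.mk₀_comp_mk₀, hz, ← Ext.mk₀_comp_mk₀]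
    conv_rhs => rw [← Equiv.apply_symm_apply ((EtCoh.pullPushAdj v).homEquiv _ _) a, EtLim24.HofPush_transpose]
    simp only [EtLim.HpullThen, AddMonoidHom.coe_comp, Function.comp_apply, EtCore.Hpull]
    simp only [AddMonoidHom.mk'_apply, ← Ext.comp_assoc_of_third_deg_zero]
    rfl

end Groth.Agent.StalkLim24
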