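import Groth.Agent.Lib.StalkLim24.Mv
import Groth.Agent.Lib.StalkLim24.TopCoc

/-!
# The maps on stalks of a square
-/

set_option autoImplicit false
set_option linter.style.haveILetI false
set_option linter.unusedSectionVars false
set_option backward.isDefEq.respectTransparency false
set_option backward.isDefEq.respectTransparency.types false

universe u

open CategoryTheory CategoryTheory.Limits AlgebraicGeometry Opposite HomologicalComplex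

namespace Groth.Agent.StalkLim24

open Groth.Agent.EtStalk Groth.Agent.StalkCrit24 Groth.Agent.EtLim24

/-- The stalk complexes of a direct image. -/
noncomputable abbrev dst {T S : Scheme.{u}} (g : T ⟶ S) (I : HomologicalComplex (EtCoh.Ab T) (ComplexShape.up ℕ))
    {Ω : Type u} [Field Ω] [IsSepClosed Ω] (ξ : Spec (CommRingCat.of Ω) ⟶ S) (k : ℕ) :
    (EtCoh.stalk ξ).obj ((EtCoh.push g).obj (I.X k)) →+ (EtCoh.stalk ξ).obj ((EtCoh.push g).obj (I.X (k + 1))) :=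
  ((EtCoh.stalk ξ).map ((EtCoh.push g).map (I.d k (k + 1)))).hom

lemma bd_sub {C : ℕ → Type*} [∀ k, AddCommGroup (C k)] {d : ∀ k, C k →+ C (k + 1)} :
    ∀ {n : ℕ} {a b : C n}, Bd d n a → Bd d n b → Bd d n (a - b)
  | 0, a, b, ha, hb => by show a - b = 0; rw [show a = 0 from ha, show b = 0 from hb, sub_zero]
  | n + 1, _, _, ⟨c, hc⟩, ⟨c', hc'⟩ => ⟨c - c', by rw [map_sub, hc, hc']⟩

lemma bd_add {C : ℕ → Type*} [∀ k, AddCommGroup (C k)] {d : ∀ k, C k →+ C (k + 1)} :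
    ∀ {n : ℕ} {a b : C n}, Bd d n a → Bd d n b → Bd d n (a + b)
  | 0, a, b, ha, hb => by show a + b = 0; rw [show a = 0 from ha, show b = 0 from hb, add_zero]
  | n + 1, _, _, ⟨c, hc⟩, ⟨c', hc'⟩ => ⟨c + c', by rw [map_add, hc, hc']⟩

lemma bd_zero {C : ℕ → Type*} [∀ k, AddCommGroup (C k)] {d : ∀ k, C k →+ C (k + 1)} : ∀ n, Bd d n 0
  | 0 => rfl
  | _ + 1 => ⟨0, map_zero _⟩

lemma bd_map_hom {C D : ℕ → Type*} [∀ k, AddCommGroup (C k)] [∀ k, AddCommGroup (D k)]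
    {d : ∀ k, C k →+ C (k + 1)} {d' : ∀ k, D k →+ D (k + 1)} (φ : ∀ k, C k →+ D k)
    (h : ∀ k x, d' k (φ k x) = φ (k + 1) (d k x)) : ∀ {n : ℕ} {a : C n}, Bd d n a → Bd d' n (φ n a)
  | 0, a, ha => by show φ 0 a = 0; rw [show a = 0 from ha, map_zero]
  | n + 1, _, ⟨c, hc⟩ => ⟨φ n c, by rw [h, hc]⟩

section Mor

variable {X S Y T : Scheme.{u}} (f : X ⟶ S) (g : T ⟶ S) (h : Y ⟶ X) (e : Y ⟶ T) (w : e ≫ g = h ≫ f)
  {Ω : Type u} [Field Ω] [IsSepClosed Ω] (ξ : Spec (CommRingCat.of Ω) ⟶ X) (ξ' : Spec (CommRingCat.of Ω) ⟶ S)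
  (hξ : ξ ≫ f = ξ')

/-- The map on stalks attached to a map into a direct image along the top of a square. -/
noncomputable def mor {F : EtCoh.Ab T} {J : EtCoh.Ab Y} (β : F ⟶ (EtCoh.push e).obj J) :
    (EtCoh.stalk ξ').obj ((EtCoh.push g).obj F) →+ (EtCoh.stalk ξ).obj ((EtCoh.push h).obj J) :=
  hξ ▸ φst f g h e w ξ (((EtCoh.pullPushAdj e).homEquiv _ _).symm β)

lemma mor_eq_φst {F : EtCoh.Ab T} {J : EtCoh.Ab Y} (χ : (EtCoh.pull e).obj F ⟶ J) :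
    φst f g h e w ξ χ = mor f g h e w ξ (ξ ≫ f) rfl ((EtCoh.pullPushAdj e).homEquiv _ _ χ) := by
  show _ = φst f g h e w ξ _
  rw [Equiv.symm_apply_apply]

lemma sqPush_app {F : EtCoh.Ab T} {J : EtCoh.Ab Y} (β : F ⟶ (EtCoh.push e).obj J) (V : S.Etale)
    (s : F.obj.obj (op ((EtCoh.bc g).obj V)))
    (κ : (EtCoh.bc h).obj ((EtCoh.bc f).obj V) ⟶ (EtCoh.bc e).obj ((EtCoh.bc g).obj V))
    (hκ : κ.left ≫ pullback.fst ((EtCoh.bc g).obj V).hom e ≫ pullback.fst V.hom g =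
      pullback.fst ((EtCoh.bc f).obj V).hom h ≫ pullback.fst V.hom f) :
    (sqPush f g h e w β).hom.app (op V) s = mv β κ s := by
  let κ₀ : (EtCoh.bc h).obj ((EtCoh.bc f).obj V) ⟶ (EtCoh.bc e).obj ((EtCoh.bc g).obj V) :=
    (bcc h f (h ≫ f) rfl).hom.app V ≫ (bcc e g (h ≫ f) w).inv.app V
  have h0 : (sqPush f g h e w β).hom.app (op V) s =
      J.obj.map ((bcc h f (h ≫ f) rfl).hom.app V).op (J.obj.map ((bcc e g (h ≫ f) w).inv.app V).op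
        (β.hom.app (op ((EtCoh.bc g).obj V)) s)) := by
    have e1 : sqPush f g h e w β = (EtCoh.push g).map β ≫ (pc e g (h ≫ f) w).hom.app J ≫ (pc h f (h ≫ f) rfl).inv.app J := by
      have hr : (EtCoh.pushCongr (rfl : h ≫ f = h ≫ f)).inv.app J = 𝟙 _ := by
        rw [← cancel_mono ((EtCoh.pushCongr (rfl : h ≫ f = h ≫ f)).hom.app J), Iso.inv_hom_id_app, Category.id_comp,
          EtAcyc24.pushCongr_refl_hom]
      simp [sqPush, pc, EtAcyc24.pushCongr_refl_hom, hr]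
    rw [e1]
    show ((pc h f (h ≫ f) rfl).inv.app J).hom.app (op V) (((pc e g (h ≫ f) w).hom.app J).hom.app (op V)
      (β.hom.app (op ((EtCoh.bc g).obj V)) s)) = _
    rw [pc_inv_app, pc_app]
  rw [h0, ← Functor.map_comp_apply, ← op_comp]
  show mv β κ₀ s = mv β κ s
  refine congrArg (fun r => mv β r s) (bc_hom_ext₂ ?_)
  refine Eq.trans ?_ hκ.symm
  show (_ ≫ _) ≫ _ = _
  rw [Category.assoc]
  erw [bcc_inv_left_fst e g (h ≫ f) w V]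
  exact bcc_hom_left_fst h f (h ≫ f) rfl V

/-- The value on a germ. -/
lemma mor_germ {F : EtCoh.Ab T} {J : EtCoh.Ab Y} (β : F ⟶ (EtCoh.push e).obj J) {V : S.Etale} (x : fib ξ' V)
    (s : F.obj.obj (op ((EtCoh.bc g).obj V))) {V' : X.Etale} (x' : fib ξ V') (a : V' ⟶ (EtCoh.bc f).obj V)
    (hx : (x'.left ≫ a.left) ≫ pullback.fst V.hom f = x.left)
    (κ : (EtCoh.bc h).obj V' ⟶ (EtCoh.bc e).obj ((EtCoh.bc g).obj V))
    (hκ : κ.left ≫ pullback.fst ((EtCoh.bc g).obj V).hom e ≫ pullback.fst V.hom g =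
      pullback.fst V'.hom h ≫ a.left ≫ pullback.fst V.hom f) :
    mor f g h e w ξ ξ' hξ β (germ ξ' ((EtCoh.push g).obj F) x s) =
      germ ξ ((EtCoh.push h).obj J) x' (mv β κ s) := by
  subst hξ
  show φst f g h e w ξ _ (germ (ξ ≫ f) _ x s) = _
  rw [φst_germ, Equiv.apply_symm_apply]
  have hl : (Scheme.pointSmallEtale ξ).fiber.map a x' = liftFib f ξ x :=
    Over.OverMorphism.ext (pullback.hom_ext (hx.trans (pullback.lift_fst _ _ _).symm)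
      (((Category.assoc _ _ _).trans ((congrArg (x'.left ≫ ·) (MorphismProperty.Over.w a)).trans (Over.w x'))).trans
        (pullback.lift_snd _ _ _).symm))
  rw [← hl, ← germ_map]
  refine congrArg (germ ξ ((EtCoh.push h).obj J) x') ?_
  let κ₁ : (EtCoh.bc h).obj ((EtCoh.bc f).obj V) ⟶ (EtCoh.bc e).obj ((EtCoh.bc g).obj V) :=
    (bcc h f (h ≫ f) rfl).hom.app V ≫ (bcc e g (h ≫ f) w).inv.app V
  have hκ₁ : κ₁.left ≫ pullback.fst ((EtCoh.bc g).obj V).hom e ≫ pullback.fst V.hom g =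
      pullback.fst ((EtCoh.bc f).obj V).hom h ≫ pullback.fst V.hom f := by
    show (_ ≫ _) ≫ _ = _
    rw [Category.assoc]
    erw [bcc_inv_left_fst e g (h ≫ f) w V]
    exact bcc_hom_left_fst h f (h ≫ f) rfl V
  rw [sqPush_app f g h e w β V s κ₁ hκ₁]
  show J.obj.map ((EtCoh.bc h).map a).op (mv β κ₁ s) = _
  rw [map_mv]
  refine congrArg (fun r => mv β r s) (bc_hom_ext₂ ?_)
  refine Eq.trans ?_ hκ.symm
  rw [comp_left', Category.assoc]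
  refine (congrArg (((EtCoh.bc h).map a).left ≫ ·) hκ₁).trans ?_
  rw [← Category.assoc, EtBCQ24.map_fst h a, Category.assoc]

/-- Compatibility with the differentials. -/
lemma dst_mor (I : HomologicalComplex (EtCoh.Ab T) (ComplexShape.up ℕ))
    (J : HomologicalComplex (EtCoh.Ab Y) (ComplexShape.up ℕ))
    (β : I ⟶ ((EtCoh.push e).mapHomologicalComplex (ComplexShape.up ℕ)).obj J) (k : ℕ)
    (a : (EtCoh.stalk ξ').obj ((EtCoh.push g).obj (I.X k))) :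
    dst h J ξ k (mor f g h e w ξ ξ' hξ (β.f k) a) =
      mor f g h e w ξ ξ' hξ (β.f (k + 1)) (dst g I ξ' k a) := by
  obtain ⟨V, x, s, rfl⟩ := germ_surjective ξ' _ a
  subst hξ
  let κ₁ : (EtCoh.bc h).obj ((EtCoh.bc f).obj V) ⟶ (EtCoh.bc e).obj ((EtCoh.bc g).obj V) :=
    (bcc h f (h ≫ f) rfl).hom.app V ≫ (bcc e g (h ≫ f) w).inv.app V
  have hκ₁ : κ₁.left ≫ pullback.fst ((EtCoh.bc g).obj V).hom e ≫ pullback.fst V.hom g =
      pullback.fst ((EtCoh.bc f).obj V).hom h ≫ (𝟙 ((EtCoh.bc f).obj V) : _).left ≫ pullback.fst V.hom f := by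
    show (_ ≫ _) ≫ _ = _
    rw [Category.assoc]
    erw [bcc_inv_left_fst e g (h ≫ f) w V]
    exact (bcc_hom_left_fst h f (h ≫ f) rfl V).trans (congrArg (_ ≫ ·) (Category.id_comp _).symm)
  have hx : ((liftFib f ξ x).left ≫ (𝟙 ((EtCoh.bc f).obj V) : _).left) ≫ pullback.fst V.hom f = x.left :=
    (congrArg (· ≫ pullback.fst V.hom f) (Category.comp_id _)).trans (pullback.lift_fst _ _ _)
  show (EtCoh.stalk ξ).map _ _ = _
  rw [mor_germ f g h e w ξ (ξ ≫ f) rfl (β.f k) x s (liftFib f ξ x) (𝟙 _) hx κ₁ hκ₁, germ_nat]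
  show _ = mor f g h e w ξ (ξ ≫ f) rfl (β.f (k + 1)) ((EtCoh.stalk (ξ ≫ f)).map _ _)
  rw [germ_nat, mor_germ f g h e w ξ (ξ ≫ f) rfl (β.f (k + 1)) x _ (liftFib f ξ x) (𝟙 _) hx κ₁ hκ₁]
  refine congrArg (germ ξ ((EtCoh.push h).obj (J.X (k + 1))) (liftFib f ξ x)) ?_
  show (J.d k (k + 1)).hom.app _ (mv (β.f k) κ₁ s) = mv (β.f (k + 1)) κ₁ ((I.d k (k + 1)).hom.app _ s)
  rw [mv_nat, ← mv_precomp]
  exact congrArg (fun m => mv m κ₁ s) (β.comm k (k + 1))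

end Mor

lemma app_add2 {X : Scheme.{u}} {F M G : EtCoh.Ab X} (a : F ⟶ M) (b : M ⟶ G) (c : F ⟶ G) (U : X.Etale)
    (s : F.obj.obj (op U)) :
    (a ≫ b + c).hom.app (op U) s = b.hom.app (op U) (a.hom.app (op U) s) + c.hom.app (op U) s := rfl

lemma app_add3 {X : Scheme.{u}} {F M G : EtCoh.Ab X} (a : F ⟶ M) (b : M ⟶ G) (c d : F ⟶ G) (U : X.Etale)
    (s : F.obj.obj (op U)) :
    (a ≫ b + c + d).hom.app (op U) s =
      b.hom.app (op U) (a.hom.app (op U) s) + c.hom.app (op U) s + d.hom.app (op U) s := rfl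

/-- Homotopic maps agree on cocycles up to coboundaries. -/
lemma bd_mv_of_homotopy {A B : Scheme.{u}} {ζ : A ⟶ B} {I : HomologicalComplex (EtCoh.Ab B) (ComplexShape.up ℕ)}
    {J : HomologicalComplex (EtCoh.Ab A) (ComplexShape.up ℕ)}
    {m m' : I ⟶ ((EtCoh.push ζ).mapHomologicalComplex (ComplexShape.up ℕ)).obj J} (H : Homotopy m m')
    {W : B.Etale} {W' : A.Etale} (κ : W' ⟶ (EtCoh.bc ζ).obj W) :
    ∀ (n : ℕ) (s : (I.X n).obj.obj (op W)), (I.d n (n + 1)).hom.app (op W) s = 0 →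
      Bd (fun k => ((J.d k (k + 1)).hom.app (op W')).hom) n (mv (m.f n) κ s - mv (m'.f n) κ s)
  | 0, s, hs => by
    have hc := H.comm 0
    rw [dNext_eq H.hom (show (ComplexShape.up ℕ).Rel 0 1 from rfl), Homotopy.prevD_zero_cochainComplex,
      add_zero] at hc
    show mv (m.f 0) κ s - mv (m'.f 0) κ s = 0
    rw [sub_eq_zero, mv_apply, mv_apply, hc, app_add2, hs, map_zero, zero_add]
  | n + 1, s, hs => by
    have hc := H.comm (n + 1)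
    rw [dNext_eq H.hom (show (ComplexShape.up ℕ).Rel (n + 1) (n + 2) from rfl),
      prevD_eq H.hom (show (ComplexShape.up ℕ).Rel n (n + 1) from rfl)] at hc
    refine ⟨mv (H.hom (n + 1) n) κ s, ?_⟩
    show (J.d n (n + 1)).hom.app (op W') (mv (H.hom (n + 1) n) κ s) = _
    rw [mv_nat, mv_apply, mv_apply, mv_apply, ← map_sub, hc, app_add3, hs, map_zero, zero_add, add_sub_cancel_right]
    rfl

section Compose

variable {S₀ S₁ S₂ T₀ T₁ T₂ : Scheme.{u}} (f₁ : S₁ ⟶ S₀) (f₂ : S₂ ⟶ S₁) (f : S₂ ⟶ S₀) (hf : f₂ ≫ f₁ = f)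
  (g₀ : T₀ ⟶ S₀) (g₁ : T₁ ⟶ S₁) (g₂ : T₂ ⟶ S₂) (e₁ : T₁ ⟶ T₀) (e₂ : T₂ ⟶ T₁) (e : T₂ ⟶ T₀) (he : e₂ ≫ e₁ = e)
  (w₁ : e₁ ≫ g₀ = g₁ ≫ f₁) (w₂ : e₂ ≫ g₁ = g₂ ≫ f₂) (w : e ≫ g₀ = g₂ ≫ f)
  {F₀ : EtCoh.Ab T₀} {F₁ : EtCoh.Ab T₁} {F₂ : EtCoh.Ab T₂} {R₀ : InjectiveResolution F₀}
  {R₁ : InjectiveResolution F₁} {R₂ : InjectiveResolution F₂}
  (β₁ : R₀.cocomplex ⟶ ((EtCoh.push e₁).mapHomologicalComplex (ComplexShape.up ℕ)).obj R₁.cocomplex)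
  (β₂ : R₁.cocomplex ⟶ ((EtCoh.push e₂).mapHomologicalComplex (ComplexShape.up ℕ)).obj R₂.cocomplex)
  (β : R₀.cocomplex ⟶ ((EtCoh.push e).mapHomologicalComplex (ComplexShape.up ℕ)).obj R₂.cocomplex)
  (hβ : R₀.ι.f 0 ≫ β.f 0 = R₀.ι.f 0 ≫ β₁.f 0 ≫ (EtCoh.push e₁).map (β₂.f 0) ≫ (pc e₂ e₁ e he).hom.app (R₂.cocomplex.X 0))
  {Ω : Type u} [Field Ω] [IsSepClosed Ω] (ξ₀ : Spec (CommRingCat.of Ω) ⟶ S₀) (ξ₁ : Spec (CommRingCat.of Ω) ⟶ S₁)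
  (ξ₂ : Spec (CommRingCat.of Ω) ⟶ S₂) (h₁ : ξ₁ ≫ f₁ = ξ₀) (h₂ : ξ₂ ≫ f₂ = ξ₁) (h : ξ₂ ≫ f = ξ₀)

/-- The composite of the maps of complexes. -/
noncomputable def compChain :
    R₀.cocomplex ⟶ ((EtCoh.push e).mapHomologicalComplex (ComplexShape.up ℕ)).obj R₂.cocomplex :=
  β₁ ≫ ((EtCoh.push e₁).mapHomologicalComplex (ComplexShape.up ℕ)).map β₂ ≫
    (NatTrans.mapHomologicalComplex (pc e₂ e₁ e he).hom (ComplexShape.up ℕ)).app R₂.cocomplex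

lemma compChain_f (n : ℕ) : (compChain e₁ e₂ e he β₁ β₂).f n =
    β₁.f n ≫ (EtCoh.push e₁).map (β₂.f n) ≫ (pc e₂ e₁ e he).hom.app (R₂.cocomplex.X n) := rfl

include hf hβ in
/-- A composite agrees with any lift of the composite, up to coboundaries. -/
theorem bd_mor_comp (n : ℕ) (a : (EtCoh.stalk ξ₀).obj ((EtCoh.push g₀).obj (trm R₀ n)))
    (ha : dst g₀ R₀.cocomplex ξ₀ n a = 0) :
    Bd (dst g₂ R₂.cocomplex ξ₂) n
      (mor f₂ g₁ g₂ e₂ w₂ ξ₂ ξ₁ h₂ (β₂.f n) (mor f₁ g₀ g₁ e₁ w₁ ξ₁ ξ₀ h₁ (β₁.f n) a) -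
        mor f g₀ g₂ e w ξ₂ ξ₀ h (β.f n) a) := by
  obtain ⟨V, x, s, -, hs, rfl⟩ := exists_rep_zero ξ₀ _ a ha
  let V₁ := (EtCoh.bc f₁).obj V
  let x₁ : fib ξ₁ V₁ := Over.homMk (pullback.lift x.left ξ₁ ((Over.w x).trans h₁.symm)) (pullback.lift_snd _ _ _)
  let V₂ := (EtCoh.bc f₂).obj V₁
  let x₂ : fib ξ₂ V₂ := Over.homMk (pullback.lift x₁.left ξ₂ ((Over.w x₁).trans h₂.symm)) (pullback.lift_snd _ _ _)
  have hx₁ : x₁.left ≫ pullback.fst V.hom f₁ = x.left := pullback.lift_fst _ _ _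
  have hx₂ : x₂.left ≫ pullback.fst V₁.hom f₂ = x₁.left := pullback.lift_fst _ _ _
  let κ₁ : (EtCoh.bc g₁).obj V₁ ⟶ (EtCoh.bc e₁).obj ((EtCoh.bc g₀).obj V) :=
    (bcc g₁ f₁ (g₁ ≫ f₁) rfl).hom.app V ≫ (bcc e₁ g₀ (g₁ ≫ f₁) w₁).inv.app V
  have hκ₁ : κ₁.left ≫ pullback.fst ((EtCoh.bc g₀).obj V).hom e₁ ≫ pullback.fst V.hom g₀ =
      pullback.fst V₁.hom g₁ ≫ pullback.fst V.hom f₁ := by
    show (_ ≫ _) ≫ _ = _
    rw [Category.assoc]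
    erw [bcc_inv_left_fst e₁ g₀ (g₁ ≫ f₁) w₁ V]
    exact bcc_hom_left_fst g₁ f₁ (g₁ ≫ f₁) rfl V
  let κ₂ : (EtCoh.bc g₂).obj V₂ ⟶ (EtCoh.bc e₂).obj ((EtCoh.bc g₁).obj V₁) :=
    (bcc g₂ f₂ (g₂ ≫ f₂) rfl).hom.app V₁ ≫ (bcc e₂ g₁ (g₂ ≫ f₂) w₂).inv.app V₁
  have hκ₂ : κ₂.left ≫ pullback.fst ((EtCoh.bc g₁).obj V₁).hom e₂ ≫ pullback.fst V₁.hom g₁ =
      pullback.fst V₂.hom g₂ ≫ pullback.fst V₁.hom f₂ := by
    show (_ ≫ _) ≫ _ = _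
    rw [Category.assoc]
    erw [bcc_inv_left_fst e₂ g₁ (g₂ ≫ f₂) w₂ V₁]
    exact bcc_hom_left_fst g₂ f₂ (g₂ ≫ f₂) rfl V₁
  let a₂ : V₂ ⟶ (EtCoh.bc f).obj V := bcLift f (pullback.fst V₁.hom f₂ ≫ pullback.fst V.hom f₁) (by
    rw [Category.assoc, fst_hom, ← Category.assoc, fst_hom, Category.assoc, hf])
  let z := (κ₂.left ≫ pullback.fst ((EtCoh.bc g₁).obj V₁).hom e₂) ≫ κ₁.left ≫ pullback.fst ((EtCoh.bc g₀).obj V).hom e₁
  let κ : (EtCoh.bc g₂).obj V₂ ⟶ (EtCoh.bc e).obj ((EtCoh.bc g₀).obj V) := bcLift e z (by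
    show ((κ₂.left ≫ _) ≫ κ₁.left ≫ _) ≫ _ = _
    rw [Category.assoc, left_fst_hom κ₁, ← Category.assoc, left_fst_hom κ₂, Category.assoc, he])
  have hκ : κ.left ≫ pullback.fst ((EtCoh.bc g₀).obj V).hom e ≫ pullback.fst V.hom g₀ =
      pullback.fst V₂.hom g₂ ≫ a₂.left ≫ pullback.fst V.hom f := by
    rw [← Category.assoc, bcLift_fst, bcLift_fst]
    show ((κ₂.left ≫ _) ≫ κ₁.left ≫ _) ≫ _ = _
    simp only [Category.assoc]
    rw [hκ₁, reassoc_of% hκ₂]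
  rw [mor_germ f₁ g₀ g₁ e₁ w₁ ξ₁ ξ₀ h₁ (β₁.f n) x s x₁ (𝟙 _)
      ((congrArg (· ≫ pullback.fst V.hom f₁) (Category.comp_id _)).trans hx₁) κ₁
      (hκ₁.trans (congrArg (_ ≫ ·) (Category.id_comp _).symm)),
    mor_germ f₂ g₁ g₂ e₂ w₂ ξ₂ ξ₁ h₂ (β₂.f n) x₁ _ x₂ (𝟙 _)
      ((congrArg (· ≫ pullback.fst V₁.hom f₂) (Category.comp_id _)).trans hx₂) κ₂
      (hκ₂.trans (congrArg (_ ≫ ·) (Category.id_comp _).symm)),
    mor_germ f g₀ g₂ e w ξ₂ ξ₀ h (β.f n) x s x₂ a₂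
      (by rw [Category.assoc, bcLift_fst, ← Category.assoc, hx₂, hx₁]) κ hκ,
    mv_mv he (β₁.f n) (β₂.f n) κ₁ κ₂ κ (bcLift_fst e z _) s, ← map_sub]
  haveI : ∀ k, Injective ((((EtCoh.push e).mapHomologicalComplex (ComplexShape.up ℕ)).obj R₂.cocomplex).X k) := fun k =>
    haveI := R₂.injective k
    injective_push e (R₂.cocomplex.X k)
  obtain ⟨H⟩ := EtBCQ24.nonempty_homotopy R₀.cocomplex R₀.ι
    (((EtCoh.push e).mapHomologicalComplex (ComplexShape.up ℕ)).obj R₂.cocomplex) (compChain e₁ e₂ e he β₁ β₂) β hβ.symm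
  exact bd_germ ξ₂ (fun k => (EtCoh.push g₂).obj (trm R₂ k)) (fun k => (EtCoh.push g₂).map (R₂.cocomplex.d k (k + 1)))
    x₂ n _ (bd_mv_of_homotopy H κ n s hs)

end Compose

end Groth.Agent.StalkLim24
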