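import Groth.Agent.Lib.EtLim24.Base
import Groth.Agent.Lib.StalkLim24.Mor

/-!
# Inverse images of systems of sheaves along a morphism of inverse systems
-/

set_option autoImplicit false
set_option linter.style.haveILetI false
set_option linter.unusedSectionVars false
set_option backward.isDefEq.respectTransparency false
set_option backward.isDefEq.respectTransparency.types false

universe u

open CategoryTheory CategoryTheory.Limits AlgebraicGeometry Opposite HomologicalComplex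

namespace Groth.Agent.StalkLim24

open Groth.Agent.EtStalk Groth.Agent.EtLim24

section Square

variable {A B A' B' : Scheme.{u}} (u : A ⟶ B) (v : A' ⟶ B') (eA : A' ⟶ A) (eB : B' ⟶ B) (w : A' ⟶ B)
  (hu : eA ≫ u = w) (hv : v ≫ eB = w)

/-- A map into a direct image lies over another one along a square. -/
def IsLift {F : EtCoh.Ab B} {M : EtCoh.Ab A} (a : F ⟶ (EtCoh.push u).obj M)
    (a' : (EtCoh.pull eB).obj F ⟶ (EtCoh.push v).obj ((EtCoh.pull eA).obj M)) : Prop :=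
  (EtCoh.pullPushAdj eB).unit.app F ≫ (EtCoh.push eB).map a' ≫
      (pc v eB w hv).hom.app ((EtCoh.pull eA).obj M) =
    a ≫ (EtCoh.push u).map ((EtCoh.pullPushAdj eA).unit.app M) ≫
      (pc eA u w hu).hom.app ((EtCoh.pull eA).obj M)

/-- Inverse image of a map from an inverse image. -/
noncomputable def liftPull {F : EtCoh.Ab B} {M : EtCoh.Ab A} (φ : (EtCoh.pull u).obj F ⟶ M) :
    (EtCoh.pull v).obj ((EtCoh.pull eB).obj F) ⟶ (EtCoh.pull eA).obj M :=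
  (pullT v eB w hv).inv.app F ≫ (pullT eA u w hu).hom.app F ≫ (EtCoh.pull eA).map φ

lemma isLift_liftPull {F : EtCoh.Ab B} {M : EtCoh.Ab A} (φ : (EtCoh.pull u).obj F ⟶ M) :
    IsLift u v eA eB w hu hv ((EtCoh.pullPushAdj u).homEquiv _ _ φ)
      ((EtCoh.pullPushAdj v).homEquiv _ _ (liftPull u v eA eB w hu hv φ)) := by
  have h1 := transpose_comp v eB w hv (𝟙 ((EtCoh.pull eB).obj F)) (liftPull u v eA eB w hu hv φ)
  have h2 := transpose_comp eA u w hu φ (𝟙 ((EtCoh.pull eA).obj M))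
  rw [Adjunction.homEquiv_id] at h1 h2
  refine h1.trans (Eq.trans (congrArg _ ?_) h2.symm)
  rw [CategoryTheory.Functor.map_id]
  erw [Category.id_comp, Category.comp_id]
  rw [liftPull, Iso.hom_inv_id_app_assoc]

lemma IsLift.unique {F : EtCoh.Ab B} {M : EtCoh.Ab A} {a : F ⟶ (EtCoh.push u).obj M}
    {x y : (EtCoh.pull eB).obj F ⟶ (EtCoh.push v).obj ((EtCoh.pull eA).obj M)}
    (hx : IsLift u v eA eB w hu hv a x) (hy : IsLift u v eA eB w hu hv a y) : x = y := by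
  have h := hx.trans hy.symm
  rw [← Category.assoc, ← Category.assoc, cancel_mono] at h
  exact ((EtCoh.pullPushAdj eB).homEquiv _ _).injective
    ((Adjunction.homEquiv_unit _ _ _ _).trans (h.trans (Adjunction.homEquiv_unit _ _ _ _).symm))

lemma IsLift.comp_map {F : EtCoh.Ab B} {M M₁ : EtCoh.Ab A} {a : F ⟶ (EtCoh.push u).obj M}
    {a' : (EtCoh.pull eB).obj F ⟶ (EtCoh.push v).obj ((EtCoh.pull eA).obj M)}
    (ha : IsLift u v eA eB w hu hv a a') (m : M ⟶ M₁) :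
    IsLift u v eA eB w hu hv (a ≫ (EtCoh.push u).map m)
      (a' ≫ (EtCoh.push v).map ((EtCoh.pull eA).map m)) := by
  have e1 := (pc v eB w hv).hom.naturality ((EtCoh.pull eA).map m)
  have e2 := (pc eA u w hu).hom.naturality ((EtCoh.pull eA).map m)
  have e3 := congrArg (EtCoh.push u).map ((EtCoh.pullPushAdj eA).unit.naturality m)
  simp only [Functor.comp_map, Functor.id_map, Functor.map_comp] at e1 e2 e3
  unfold IsLift at ha ⊢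
  rw [Functor.map_comp, Category.assoc, Category.assoc]
  erw [e1, reassoc_of% ha, reassoc_of% e3, e2]

end Square

section Compose

variable {A B C A' B' C' : Scheme.{u}} {u₁ : B ⟶ C} {u₂ : A ⟶ B} {v₁ : B' ⟶ C'} {v₂ : A' ⟶ B'}
  {eA : A' ⟶ A} {eB : B' ⟶ B} {eC : C' ⟶ C}

/-- Composition of lifts. -/
lemma IsLift.comp {w₁ : B' ⟶ C} {w₂ : A' ⟶ B} {w : A' ⟶ C} {hu₁ : eB ≫ u₁ = w₁} {hv₁ : v₁ ≫ eC = w₁}
    {hu₂ : eA ≫ u₂ = w₂} {hv₂ : v₂ ≫ eB = w₂} {F : EtCoh.Ab C} {M : EtCoh.Ab B} {L : EtCoh.Ab A}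
    {a₁ : F ⟶ (EtCoh.push u₁).obj M} {a₁' : (EtCoh.pull eC).obj F ⟶ (EtCoh.push v₁).obj ((EtCoh.pull eB).obj M)}
    (h₁ : IsLift u₁ v₁ eB eC w₁ hu₁ hv₁ a₁ a₁')
    {a₂ : M ⟶ (EtCoh.push u₂).obj L} {a₂' : (EtCoh.pull eB).obj M ⟶ (EtCoh.push v₂).obj ((EtCoh.pull eA).obj L)}
    (h₂ : IsLift u₂ v₂ eA eB w₂ hu₂ hv₂ a₂ a₂')
    (u : A ⟶ C) (hu : u₂ ≫ u₁ = u) (v : A' ⟶ C') (hv : v₂ ≫ v₁ = v) (hw₁ : eA ≫ u = w) (hw₂ : v ≫ eC = w) :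
    IsLift u v eA eC w hw₁ hw₂ (a₁ ≫ (EtCoh.push u₁).map a₂ ≫ (pc u₂ u₁ u hu).hom.app L)
      (a₁' ≫ (EtCoh.push v₁).map a₂' ≫ (pc v₂ v₁ v hv).hom.app ((EtCoh.pull eA).obj L)) := by
  have h3 : v₂ ≫ w₁ = w := by rw [← hv₁, ← Category.assoc, hv, hw₂]
  have h4 : w₂ ≫ u₁ = w := by rw [← hu₂, Category.assoc, hu, hw₁]
  let L' := (EtCoh.pull eA).obj L
  have p1 := pc_assoc v₂ v₁ eC v w₁ w hv hv₁ hw₂ h3 L'
  have p2 := pc_assoc v₂ eB u₁ w₂ w₁ w hv₂ hu₁ h4 h3 L'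
  have p3 := pc_assoc eA u₂ u₁ w₂ u w hu₂ hu h4 hw₁ L'
  have n1 := (pc v₁ eC w₁ hv₁).hom.naturality a₂'
  have n2 := (pc eB u₁ w₁ hu₁).hom.naturality a₂'
  have n3 := (pc u₂ u₁ u hu).hom.naturality ((EtCoh.pullPushAdj eA).unit.app L)
  simp only [Functor.comp_map, Functor.id_map] at n1 n2 n3
  have k₂ := congrArg (EtCoh.push u₁).map h₂
  simp only [Functor.map_comp] at k₂
  unfold IsLift at h₁ ⊢
  simp only [Functor.map_comp, Category.assoc]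
  erw [p1, reassoc_of% n1, reassoc_of% h₁, ← reassoc_of% n2, ← p2, reassoc_of% k₂, p3, ← reassoc_of% n3]

end Compose

section Chains

variable {A B : Scheme.{u}} (v : A ⟶ B)

/-- A lift of a map into a direct image to resolutions. -/
lemma exists_chain {F : EtCoh.Ab B} {M : EtCoh.Ab A} (R : InjectiveResolution F) (R' : InjectiveResolution M)
    (a : F ⟶ (EtCoh.push v).obj M) :
    ∃ χ : R.cocomplex ⟶ ((EtCoh.push v).mapHomologicalComplex (ComplexShape.up ℕ)).obj R'.cocomplex,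
      R.ι.f 0 ≫ χ.f 0 = a ≫ (EtCoh.push v).map (R'.ι.f 0) := by
  haveI : ∀ k, Injective ((((EtCoh.push v).mapHomologicalComplex (ComplexShape.up ℕ)).obj R'.cocomplex).X k) :=
    fun k =>
      haveI := R'.injective k
      injective_push v (R'.cocomplex.X k)
  exact ⟨RDer.descToInjectives a R.cocomplex R.ι _ (RDer.mapAug (EtCoh.push v) R'.ι),
    (RDer.ι_descToInjectives_f_zero _ _ _ _ _).trans
      (congrArg (a ≫ ·) (EtBCQ24.mapAug_f_zero (EtCoh.push v) R'.ι))⟩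

variable {C : Scheme.{u}} (u₁ : B ⟶ C) (w : A ⟶ C) (hw : v ≫ u₁ = w)

/-- The augmentation of a composite of chains. -/
lemma aug_comp {F₀ : EtCoh.Ab C} {F₁ : EtCoh.Ab B} {F₂ : EtCoh.Ab A} {R₀ : InjectiveResolution F₀}
    {R₁ : InjectiveResolution F₁} {R₂ : InjectiveResolution F₂}
    {β₁ : R₀.cocomplex ⟶ ((EtCoh.push u₁).mapHomologicalComplex (ComplexShape.up ℕ)).obj R₁.cocomplex}
    {β₂ : R₁.cocomplex ⟶ ((EtCoh.push v).mapHomologicalComplex (ComplexShape.up ℕ)).obj R₂.cocomplex}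
    {a : F₀ ⟶ (EtCoh.push u₁).obj F₁} {b : F₁ ⟶ (EtCoh.push v).obj F₂}
    (h₁ : R₀.ι.f 0 ≫ β₁.f 0 = a ≫ (EtCoh.push u₁).map (R₁.ι.f 0))
    (h₂ : R₁.ι.f 0 ≫ β₂.f 0 = b ≫ (EtCoh.push v).map (R₂.ι.f 0)) :
    R₀.ι.f 0 ≫ β₁.f 0 ≫ (EtCoh.push u₁).map (β₂.f 0) ≫ (pc v u₁ w hw).hom.app (R₂.cocomplex.X 0) =
      (a ≫ (EtCoh.push u₁).map b ≫ (pc v u₁ w hw).hom.app F₂) ≫ (EtCoh.push w).map (R₂.ι.f 0) := by
  rw [← Category.assoc, h₁]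
  simp only [Category.assoc]
  rw [← Functor.map_comp_assoc, h₂, Functor.map_comp_assoc]
  refine congrArg (fun z => a ≫ (EtCoh.push u₁).map b ≫ z) ?_
  exact (pc v u₁ w hw).hom.naturality (R₂.ι.f 0)

end Chains

section Square2

open Groth.Agent.StalkCrit24

variable {X S Y T X₁ S₁ Y₁ T₁ : Scheme.{u}} {f : X ⟶ S} {g : T ⟶ S} {h : Y ⟶ X} {e : Y ⟶ T}
  {f₁ : X₁ ⟶ S₁} {g₁ : T₁ ⟶ S₁} {h₁ : Y₁ ⟶ X₁} {e₁ : Y₁ ⟶ T₁}
  {pS : S ⟶ S₁} {pX : X ⟶ X₁} {pT : T ⟶ T₁} {pY : Y ⟶ Y₁}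
  {F₁ : EtCoh.Ab T₁} {F : EtCoh.Ab T} {RT₁ : InjectiveResolution F₁} {RT : InjectiveResolution F}
  {RY₁ : InjectiveResolution ((EtCoh.pull e₁).obj F₁)} {RY : InjectiveResolution ((EtCoh.pull e).obj F)}

/-- The two ways around a cube agree up to coboundaries. -/
theorem bd_cube (hS : pT ≫ g₁ = g ≫ pS) (hX : pY ≫ h₁ = h ≫ pX) (hf : pX ≫ f₁ = f ≫ pS) (he : pY ≫ e₁ = e ≫ pT)
    (w : e ≫ g = h ≫ f) (w₁ : e₁ ≫ g₁ = h₁ ≫ f₁)
    {a : F₁ ⟶ (EtCoh.push pT).obj F} {a' : (EtCoh.pull e₁).obj F₁ ⟶ (EtCoh.push pY).obj ((EtCoh.pull e).obj F)}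
    (ha : IsLift pT pY e e₁ (e ≫ pT) rfl he a a')
    {χT : RT₁.cocomplex ⟶ ((EtCoh.push pT).mapHomologicalComplex (ComplexShape.up ℕ)).obj RT.cocomplex}
    (hχT : RT₁.ι.f 0 ≫ χT.f 0 = a ≫ (EtCoh.push pT).map (RT.ι.f 0))
    {χY : RY₁.cocomplex ⟶ ((EtCoh.push pY).mapHomologicalComplex (ComplexShape.up ℕ)).obj RY.cocomplex}
    (hχY : RY₁.ι.f 0 ≫ χY.f 0 = a' ≫ (EtCoh.push pY).map (RY.ι.f 0))
    {β : RT.cocomplex ⟶ ((EtCoh.push e).mapHomologicalComplex (ComplexShape.up ℕ)).obj RY.cocomplex}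
    (hβ : RT.ι.f 0 ≫ β.f 0 = (EtCoh.pullPushAdj e).unit.app F ≫ (EtCoh.push e).map (RY.ι.f 0))
    {β₁ : RT₁.cocomplex ⟶ ((EtCoh.push e₁).mapHomologicalComplex (ComplexShape.up ℕ)).obj RY₁.cocomplex}
    (hβ₁ : RT₁.ι.f 0 ≫ β₁.f 0 = (EtCoh.pullPushAdj e₁).unit.app F₁ ≫ (EtCoh.push e₁).map (RY₁.ι.f 0))
    {Ω : Type u} [Field Ω] [IsSepClosed Ω] (ξ : Spec (CommRingCat.of Ω) ⟶ X)
    (ξS : Spec (CommRingCat.of Ω) ⟶ S) (ξX₁ : Spec (CommRingCat.of Ω) ⟶ X₁) (ξS₁ : Spec (CommRingCat.of Ω) ⟶ S₁)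
    (h₂ : ξ ≫ f = ξS) (h₃ : ξ ≫ pX = ξX₁) (h₄ : ξS ≫ pS = ξS₁) (h₅ : ξX₁ ≫ f₁ = ξS₁) (n : ℕ)
    (x : (EtCoh.stalk ξS₁).obj ((EtCoh.push g₁).obj (trm RT₁ n))) (hx : dst g₁ RT₁.cocomplex ξS₁ n x = 0) :
    Bd (dst h RY.cocomplex ξ) n
      (mor pX h₁ h pY hX ξ ξX₁ h₃ (χY.f n) (mor f₁ g₁ h₁ e₁ w₁ ξX₁ ξS₁ h₅ (β₁.f n) x) -
        mor f g h e w ξ ξS h₂ (β.f n) (mor pS g₁ g pT hS ξS ξS₁ h₄ (χT.f n) x)) := by
  have hw : (e ≫ pT) ≫ g₁ = h ≫ f ≫ pS := by rw [Category.assoc, hS, ← Category.assoc, w, Category.assoc]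
  have hξ : ξ ≫ f ≫ pS = ξS₁ := by rw [← Category.assoc, h₂, h₄]
  have hB : RT₁.ι.f 0 ≫ (compChain pT e (e ≫ pT) rfl χT β).f 0 = RT₁.ι.f 0 ≫ β₁.f 0 ≫ (EtCoh.push e₁).map (χY.f 0) ≫
      (pc pY e₁ (e ≫ pT) he).hom.app (RY.cocomplex.X 0) := by
    rw [compChain_f, aug_comp e pT (e ≫ pT) rfl hχT hβ, aug_comp pY e₁ (e ≫ pT) he hβ₁ hχY]
    exact congrArg (· ≫ (EtCoh.push (e ≫ pT)).map (RY.ι.f 0)) ha.symm
  have A := bd_mor_comp pS f (f ≫ pS) rfl g₁ g h pT e (e ≫ pT) rfl hS w hw χT β (compChain pT e (e ≫ pT) rfl χT β)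
    rfl ξS₁ ξS ξ h₄ h₂ hξ n x hx
  have B := bd_mor_comp f₁ pX (f ≫ pS) hf g₁ h₁ h e₁ pY (e ≫ pT) he w₁ hX hw β₁ χY
    (compChain pT e (e ≫ pT) rfl χT β) hB ξS₁ ξX₁ ξ h₅ h₃ hξ n x hx
  have C := bd_sub B A
  rwa [sub_sub_sub_cancel_right] at C

end Square2

end Groth.Agent.StalkLim24
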