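import Groth.Agent.Lib.StalkLim24.Lift

/-!
# Systems of sheaves along a limit of squares
-/

set_option autoImplicit false
set_option linter.style.haveILetI false
set_option linter.unusedSectionVars false

universe u

open CategoryTheory CategoryTheory.Limits AlgebraicGeometry Opposite

namespace Groth.Agent.StalkLim24

open Groth.Agent.EtStalk Groth.Agent.EtLim24

variable {ι : Type u} [Preorder ι] [Nonempty ι] [IsDirected ι (· ≤ ·)]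

/-- The transpose of a compatible family of maps from inverse images. -/
lemma transpose_fac {A B C : Scheme.{u}} (v : A ⟶ B) (u : B ⟶ C) (w : A ⟶ C) (e : v ≫ u = w) {F : EtCoh.Ab C}
    {M : EtCoh.Ab B} {L L' : EtCoh.Ab A} (φ : (EtCoh.pull u).obj F ⟶ M) (ψ' : (EtCoh.pull v).obj M ⟶ L')
    (ψ : (EtCoh.pull w).obj F ⟶ L) (m : L ⟶ L')
    (hm : ψ ≫ m = (pullT v u w e).hom.app F ≫ (EtCoh.pull v).map φ ≫ ψ') :
    (EtCoh.pullPushAdj u).homEquiv F M φ ≫ (EtCoh.push u).map ((EtCoh.pullPushAdj v).homEquiv M L' ψ') ≫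
        (pc v u w e).hom.app L' =
      (EtCoh.pullPushAdj w).homEquiv F L ψ ≫ (EtCoh.push w).map m :=
  (transpose_comp v u w e φ ψ').trans
    ((congrArg ((EtCoh.pullPushAdj w).homEquiv F L') hm.symm).trans (Adjunction.homEquiv_naturality_right _ _ _))

lemma pullTrans_eq {ι : Type u} [Preorder ι] {Xs : ιᵒᵖ ⥤ Scheme.{u}} {i j k : ι} (h₁ : i ≤ j) (h₂ : j ≤ k) :
    EtLim.pullTrans Xs h₁ h₂ = pullT (uM Xs h₂) (uM Xs h₁) _ (uM_comp h₁ h₂) := rfl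

lemma pullTransCone_eq {ι : Type u} [Preorder ι] {Xs : ιᵒᵖ ⥤ Scheme.{u}} {c : Cone Xs} {i j : ι} (h : i ≤ j) :
    EtLim.pullTransCone Xs c h = pullT (pr Xs c j) (uM Xs h) _ (pr_w h) := rfl

section Systems

variable {Xs Ss Ts Ys : ιᵒᵖ ⥤ Scheme.{u}} (fN : Xs ⟶ Ss) (gN : Ts ⟶ Ss) (hN : Ys ⟶ Xs) (eN : Ys ⟶ Ts)
  {cX : Cone Xs} {cS : Cone Ss} {cT : Cone Ts} {cY : Cone Ys}
  (f : cX.pt ⟶ cS.pt) (g : cT.pt ⟶ cS.pt) (h : cY.pt ⟶ cX.pt) (e : cY.pt ⟶ cT.pt)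
  (he : ∀ a, e ≫ cT.π.app a = cY.π.app a ≫ eN.app a)

/-- The two systems of sheaves. -/
theorem exists_systems (haffT : ∀ ⦃a b : ιᵒᵖ⦄ (m : a ⟶ b), IsAffineHom (Ts.map m))
    (haffY : ∀ ⦃a b : ιᵒᵖ⦄ (m : a ⟶ b), IsAffineHom (Ys.map m)) (hcT : IsLimit cT) (hcY : IsLimit cY)
    (F : ∀ i : ι, EtCoh.Ab (Ts.obj (op i)))
    (φ : ∀ ⦃i j : ι⦄ (hij : i ≤ j), (EtCoh.pull (Ts.map (homOfLE hij).op)).obj (F i) ⟶ F j)
    (hφ : ∀ ⦃i j k : ι⦄ (hij : i ≤ j) (hjk : j ≤ k),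
      φ (hij.trans hjk) = (EtLim.pullTrans Ts hij hjk).hom.app (F i) ≫
        (EtCoh.pull (Ts.map (homOfLE hjk).op)).map (φ hij) ≫ φ hjk)
    (G : ι ⥤ EtCoh.Ab cT.pt) (ψ : ∀ i : ι, (EtCoh.pull (cT.π.app (op i))).obj (F i) ≅ G.obj i)
    (hψ : ∀ ⦃i j : ι⦄ (hij : i ≤ j), (ψ i).hom ≫ G.map (homOfLE hij) =
      (EtLim.pullTransCone Ts cT hij).hom.app (F i) ≫ (EtCoh.pull (cT.π.app (op j))).map (φ hij) ≫ (ψ j).hom) :
    ∃ (a : ∀ i, F i ⟶ (EtCoh.push (pr Ts cT i)).obj (colimit G))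
      (t : ∀ ⦃i j : ι⦄ (hij : i ≤ j), F i ⟶ (EtCoh.push (uM Ts hij)).obj (F j))
      (fac : ∀ ⦃i j : ι⦄ (hij : i ≤ j), t hij ≫ bmap hij (a j) = a i)
      (coc : ∀ ⦃i j k : ι⦄ (h₁ : i ≤ j) (h₂ : j ≤ k),
        t (h₁.trans h₂) = t h₁ ≫ (EtCoh.push (uM Ts h₁)).map (t h₂) ≫ tcomp h₁ h₂ (F k))
      (a' : ∀ i, (EtCoh.pull (eN.app (op i))).obj (F i) ⟶
        (EtCoh.push (pr Ys cY i)).obj ((EtCoh.pull e).obj (colimit G)))
      (t' : ∀ ⦃i j : ι⦄ (hij : i ≤ j), (EtCoh.pull (eN.app (op i))).obj (F i) ⟶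
        (EtCoh.push (uM Ys hij)).obj ((EtCoh.pull (eN.app (op j))).obj (F j)))
      (fac' : ∀ ⦃i j : ι⦄ (hij : i ≤ j), t' hij ≫ bmap hij (a' j) = a' i)
      (coc' : ∀ ⦃i j k : ι⦄ (h₁ : i ≤ j) (h₂ : j ≤ k),
        t' (h₁.trans h₂) = t' h₁ ≫ (EtCoh.push (uM Ys h₁)).map (t' h₂) ≫
          tcomp h₁ h₂ ((EtCoh.pull (eN.app (op k))).obj (F k))),
      (Sys.mk (c := cT) F (colimit G) a t fac coc).IsLim ∧
      (Sys.mk (c := cY) (fun i => (EtCoh.pull (eN.app (op i))).obj (F i)) ((EtCoh.pull e).obj (colimit G))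
        a' t' fac' coc').IsLim ∧
      (∀ i, IsLift (pr Ts cT i) (pr Ys cY i) e (eN.app (op i)) _ rfl (he (op i)).symm (a i) (a' i)) ∧
      (∀ ⦃i j : ι⦄ (hij : i ≤ j), IsLift (uM Ts hij) (uM Ys hij) (eN.app (op j)) (eN.app (op i)) _ rfl
        (eN.naturality (homOfLE hij).op) (t hij) (t' hij)) := by
  -- the system on `T`
  let t : ∀ ⦃i j : ι⦄ (hij : i ≤ j), F i ⟶ (EtCoh.push (uM Ts hij)).obj (F j) := fun i j hij =>
    (EtCoh.pullPushAdj (uM Ts hij)).homEquiv (F i) (F j) (φ hij)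
  let η : ∀ i, F i ⟶ (EtCoh.push (pr Ts cT i)).obj (G.obj i) := fun i =>
    (EtCoh.pullPushAdj (pr Ts cT i)).homEquiv (F i) (G.obj i) (ψ i).hom
  have hco : ∀ ⦃i j k : ι⦄ (h₁ : i ≤ j) (h₂ : j ≤ k),
      t (h₁.trans h₂) = t h₁ ≫ (EtCoh.push (uM Ts h₁)).map (t h₂) ≫ tcomp h₁ h₂ (F k) := by
    intro i j k h₁ h₂
    have hm : φ (h₁.trans h₂) = (pullT (uM Ts h₂) (uM Ts h₁) _ (uM_comp h₁ h₂)).hom.app (F i) ≫
        (EtCoh.pull (uM Ts h₂)).map (φ h₁) ≫ φ h₂ := by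
      exact (hφ h₁ h₂).trans (congrArg (fun z : EtCoh.pull (uM Ts (h₁.trans h₂)) ≅ _ =>
        z.hom.app (F i) ≫ (EtCoh.pull (uM Ts h₂)).map (φ h₁) ≫ φ h₂) (pullTrans_eq h₁ h₂))
    dsimp only [t]
    rw [tcomp, transpose_comp (uM Ts h₂) (uM Ts h₁) _ (uM_comp h₁ h₂) (φ h₁) (φ h₂), hm]
  have hfac : ∀ ⦃i j : ι⦄ (hij : i ≤ j), t hij ≫ bmap hij (η j) =
      η i ≫ (EtCoh.push (pr Ts cT i)).map (G.map (homOfLE hij)) := by
    intro i j hij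
    have hm : (ψ i).hom ≫ G.map (homOfLE hij) = (pullT (pr Ts cT j) (uM Ts hij) _ (pr_w hij)).hom.app (F i) ≫
        (EtCoh.pull (pr Ts cT j)).map (φ hij) ≫ (ψ j).hom := by
      exact (hψ hij).trans (congrArg (fun z : EtCoh.pull (pr Ts cT i) ≅ _ =>
        z.hom.app (F i) ≫ (EtCoh.pull (pr Ts cT j)).map (φ hij) ≫ (ψ j).hom) (pullTransCone_eq hij))
    dsimp only [t, η]
    rw [bmap]
    exact transpose_fac (pr Ts cT j) (uM Ts hij) _ (pr_w hij) (φ hij) (ψ j).hom (ψ i).hom (G.map (homOfLE hij)) hm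
  let P : PullSys Ts cT :=
    { F := F, D := G, η := η, t := t, fac := hfac
      isPullUnit := fun i => by
        exact (congrArg (fun q => IsIso q) (((EtCoh.pullPushAdj (pr Ts cT i)).homEquiv _ _).symm_apply_apply
          (ψ i).hom)).mpr inferInstance }
  let ST := P.toSys (colimit.cocone G) hco
  have hST : ST.IsLim := P.isLim_toSys haffT hcT _ (colimit.isColimit G) hco
  -- the system on `Y`
  have heN : ∀ ⦃i j : ι⦄ (hij : i ≤ j), uM Ys hij ≫ eN.app (op i) = eN.app (op j) ≫ uM Ts hij :=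
    fun i j hij => eN.naturality _
  let t' : ∀ ⦃i j : ι⦄ (hij : i ≤ j), (EtCoh.pull (eN.app (op i))).obj (F i) ⟶
      (EtCoh.push (uM Ys hij)).obj ((EtCoh.pull (eN.app (op j))).obj (F j)) := fun i j hij =>
    (EtCoh.pullPushAdj (uM Ys hij)).homEquiv _ _
      (liftPull (uM Ts hij) (uM Ys hij) (eN.app (op j)) (eN.app (op i)) _ rfl (heN hij) (φ hij))
  let η' : ∀ i, (EtCoh.pull (eN.app (op i))).obj (F i) ⟶
      (EtCoh.push (pr Ys cY i)).obj ((EtCoh.pull e).obj (G.obj i)) := fun i =>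
    (EtCoh.pullPushAdj (pr Ys cY i)).homEquiv _ _
      (liftPull (pr Ts cT i) (pr Ys cY i) e (eN.app (op i)) _ rfl (he (op i)).symm (ψ i).hom)
  have lt : ∀ ⦃i j : ι⦄ (hij : i ≤ j),
      IsLift (uM Ts hij) (uM Ys hij) (eN.app (op j)) (eN.app (op i)) _ rfl (heN hij) (t hij) (t' hij) :=
    fun i j hij => isLift_liftPull _ _ _ _ _ _ _ (φ hij)
  have lη : ∀ i, IsLift (pr Ts cT i) (pr Ys cY i) e (eN.app (op i)) _ rfl (he (op i)).symm (η i) (η' i) :=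
    fun i => isLift_liftPull _ _ _ _ _ _ _ (ψ i).hom
  have hco' : ∀ ⦃i j k : ι⦄ (h₁ : i ≤ j) (h₂ : j ≤ k),
      t' (h₁.trans h₂) = t' h₁ ≫ (EtCoh.push (uM Ys h₁)).map (t' h₂) ≫
        tcomp h₁ h₂ ((EtCoh.pull (eN.app (op k))).obj (F k)) := by
    intro i j k h₁ h₂
    have hc := IsLift.comp (lt h₁) (lt h₂) _ (uM_comp h₁ h₂) _ (uM_comp h₁ h₂) rfl (heN (h₁.trans h₂))
    refine IsLift.unique _ _ _ _ _ _ _ (lt (h₁.trans h₂)) ?_
    rw [hco h₁ h₂]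
    exact hc
  have hfac' : ∀ ⦃i j : ι⦄ (hij : i ≤ j), t' hij ≫ bmap hij (η' j) =
      η' i ≫ (EtCoh.push (pr Ys cY i)).map ((EtCoh.pull e).map (G.map (homOfLE hij))) := by
    intro i j hij
    have hc := IsLift.comp (lt hij) (lη j) _ (pr_w hij) _ (pr_w hij) rfl (he (op i)).symm
    refine IsLift.unique _ _ _ _ _ _ _ ?_ ((lη i).comp_map _ _ _ _ _ _ _ (G.map (homOfLE hij)))
    rw [← hfac hij]
    exact hc
  let P' : PullSys Ys cY :=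
    { F := fun i => (EtCoh.pull (eN.app (op i))).obj (F i), D := G ⋙ EtCoh.pull e, η := η', t := t', fac := hfac'
      isPullUnit := fun i => by
        refine (congrArg (fun q => IsIso q) (((EtCoh.pullPushAdj (pr Ys cY i)).homEquiv _ _).symm_apply_apply
          (liftPull (pr Ts cT i) (pr Ys cY i) e (eN.app (op i)) _ rfl (he (op i)).symm (ψ i).hom))).mpr ?_
        unfold liftPull
        infer_instance }
  haveI := (EtCoh.pullPushAdj e).leftAdjoint_preservesColimits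
  let SY := P'.toSys ((EtCoh.pull e).mapCocone (colimit.cocone G)) hco'
  have hSY : SY.IsLim := P'.isLim_toSys haffY hcY _ (isColimitOfPreserves (EtCoh.pull e) (colimit.isColimit G)) hco'
  have la : ∀ i, IsLift (pr Ts cT i) (pr Ys cY i) e (eN.app (op i)) _ rfl (he (op i)).symm (ST.a i) (SY.a i) :=
    fun i => (lη i).comp_map _ _ _ _ _ _ _ (colimit.ι G i)
  exact ⟨ST.a, ST.t, ST.fac, ST.cocycle, SY.a, SY.t, SY.fac, SY.cocycle, hST, hSY, la, lt⟩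

end Systems

end Groth.Agent.StalkLim24
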