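import Groth.Agent.Lib.StalkLim24.StalkColim
import Groth.Agent.Lib.StalkLim24.StalkForm
import Groth.Agent.Lib.StalkLim24.Systems

/-!
# Base change maps on a limit of squares
-/

set_option autoImplicit false
set_option linter.style.haveILetI false
set_option linter.unusedSectionVars false
set_option backward.isDefEq.respectTransparency false
set_option backward.isDefEq.respectTransparency.types false

universe u

open CategoryTheory CategoryTheory.Limits AlgebraicGeometry Opposite HomologicalComplex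

namespace Groth.Agent.StalkLim24

open Groth.Agent.EtStalk Groth.Agent.StalkCrit24 Groth.Agent.EtLim24

section Single

variable {X S Y T : Scheme.{u}} (f : X ⟶ S) (g : T ⟶ S) (h : Y ⟶ X) (e : Y ⟶ T) (w : e ≫ g = h ≫ f)

/-- The chain computing the base change map, transposed. -/
lemma χK_f [PreservesFiniteLimits (EtCoh.pull e)] (F : EtCoh.Ab T) (n : ℕ) :
    (EtBCQ24.χK e F).f n = ((EtCoh.pullPushAdj e).homEquiv _ _).symm ((EtBCQ24.φK e F).f n) := by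
  rw [EtBCQ24.χK, Adjunction.homEquiv_counit, Adjunction.homEquiv_counit]
  rfl

/-- The criterion on cocycles, for the chosen resolutions. -/
theorem isIso_bcQ_iff_mor [PreservesFiniteLimits (EtCoh.pull e)] (F : EtCoh.Ab T) (q : ℕ) :
    IsIso (EtBC.bcQ g f h e w q F) ↔ ∀ (Ω : Type u) [Field Ω] [IsSepClosed Ω] (ξ : Spec (CommRingCat.of Ω) ⟶ X)
      (ξ' : Spec (CommRingCat.of Ω) ⟶ S) (hξ : ξ ≫ f = ξ'),
      BijCoc (dst g (injectiveResolution F).cocomplex ξ')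
        (dst h (injectiveResolution ((EtCoh.pull e).obj F)).cocomplex ξ)
        (fun k => mor f g h e w ξ ξ' hξ ((EtBCQ24.φK e F).f k)) q := by
  have key : ∀ (Ω : Type u) [Field Ω] [IsSepClosed Ω] (ξ : Spec (CommRingCat.of Ω) ⟶ X),
      (fun k => φst f g h e w ξ ((EtBCQ24.χK e F).f k)) =
        fun k => mor f g h e w ξ (ξ ≫ f) rfl ((EtBCQ24.φK e F).f k) := fun Ω _ _ ξ => funext fun k => by
    rw [χK_f]
    rfl
  rw [isIso_bcQ_iff_bijCoc f g h e w (injectiveResolution F) (injectiveResolution ((EtCoh.pull e).obj F))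
    (EtBCQ24.χK e F) (EtBCQ24.ι_χK e F) q]
  constructor
  · intro H Ω _ _ ξ ξ' hξ
    subst hξ
    exact (congrArg (fun p => BijCoc _ _ p q) (key Ω ξ)).mp (H Ω ξ)
  · intro H Ω _ _ ξ
    exact (congrArg (fun p => BijCoc _ _ p q) (key Ω ξ)).mpr (H Ω ξ (ξ ≫ f) rfl)

lemma dst_mor_eq_zero {I : HomologicalComplex (EtCoh.Ab T) (ComplexShape.up ℕ)}
    {J : HomologicalComplex (EtCoh.Ab Y) (ComplexShape.up ℕ)}
    (β : I ⟶ ((EtCoh.push e).mapHomologicalComplex (ComplexShape.up ℕ)).obj J)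
    {Ω : Type u} [Field Ω] [IsSepClosed Ω] (ξ : Spec (CommRingCat.of Ω) ⟶ X) (ξ' : Spec (CommRingCat.of Ω) ⟶ S)
    (hξ : ξ ≫ f = ξ') {n : ℕ} {a : (EtCoh.stalk ξ').obj ((EtCoh.push g).obj (I.X n))}
    (ha : dst g I ξ' n a = 0) : dst h J ξ n (mor f g h e w ξ ξ' hξ (β.f n) a) = 0 := by
  rw [dst_mor f g h e w ξ ξ' hξ I J β n a, ha, map_zero]

lemma bd_mor {I : HomologicalComplex (EtCoh.Ab T) (ComplexShape.up ℕ)}
    {J : HomologicalComplex (EtCoh.Ab Y) (ComplexShape.up ℕ)}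
    (β : I ⟶ ((EtCoh.push e).mapHomologicalComplex (ComplexShape.up ℕ)).obj J)
    {Ω : Type u} [Field Ω] [IsSepClosed Ω] (ξ : Spec (CommRingCat.of Ω) ⟶ X) (ξ' : Spec (CommRingCat.of Ω) ⟶ S)
    (hξ : ξ ≫ f = ξ') {n : ℕ} {a : (EtCoh.stalk ξ').obj ((EtCoh.push g).obj (I.X n))}
    (ha : Bd (dst g I ξ') n a) : Bd (dst h J ξ) n (mor f g h e w ξ ξ' hξ (β.f n) a) :=
  bd_map_hom (fun k => mor f g h e w ξ ξ' hξ (β.f k)) (fun k x => dst_mor f g h e w ξ ξ' hξ I J β k x) ha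

lemma bd_cancel {C : ℕ → Type*} [∀ k, AddCommGroup (C k)] {d : ∀ k, C k →+ C (k + 1)} {n : ℕ} {a b : C n}
    (h₁ : Bd d n (a - b)) (h₂ : Bd d n b) : Bd d n a := by
  have h := bd_add h₁ h₂
  rwa [sub_add_cancel] at h

lemma bd_cancel' {C : ℕ → Type*} [∀ k, AddCommGroup (C k)] {d : ∀ k, C k →+ C (k + 1)} {n : ℕ} {a b : C n}
    (h₁ : Bd d n (a - b)) (h₂ : Bd d n a) : Bd d n b := by
  have h := bd_sub h₂ h₁
  rwa [sub_sub_cancel] at h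

lemma bd_trans {C : ℕ → Type*} [∀ k, AddCommGroup (C k)] {d : ∀ k, C k →+ C (k + 1)} {n : ℕ} {x a b c : C n}
    (h₁ : Bd d n (x - a)) (h₂ : Bd d n (x - b)) (h₃ : Bd d n (a - c)) : Bd d n (b - c) := by
  have h := bd_add (bd_sub h₁ h₂) h₃
  rwa [sub_sub_sub_cancel_left, sub_add_sub_cancel] at h

end Single

variable {ι : Type u} [Preorder ι] [Nonempty ι] [IsDirected ι (· ≤ ·)]

section Core

variable {Xs Ss Ts Ys : ιᵒᵖ ⥤ Scheme.{u}} (fN : Xs ⟶ Ss) (gN : Ts ⟶ Ss) (hN : Ys ⟶ Xs) (eN : Ys ⟶ Ts)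
  {cX : Cone Xs} {cS : Cone Ss} {cT : Cone Ts} {cY : Cone Ys}
  (f : cX.pt ⟶ cS.pt) (g : cT.pt ⟶ cS.pt) (h : cY.pt ⟶ cX.pt) (e : cY.pt ⟶ cT.pt)
  (he : ∀ a, e ≫ cT.π.app a = cY.π.app a ≫ eN.app a)
  (hf : ∀ a, f ≫ cS.π.app a = cX.π.app a ≫ fN.app a) (hg : ∀ a, g ≫ cS.π.app a = cT.π.app a ≫ gN.app a)
  (hh : ∀ a, h ≫ cX.π.app a = cY.π.app a ≫ hN.app a) (w : e ≫ g = h ≫ f)
  (wN : ∀ a, eN.app a ≫ gN.app a = hN.app a ≫ fN.app a)
  [∀ a, QuasiCompact (gN.app a)] [∀ a, QuasiSeparated (gN.app a)]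
  [∀ a, QuasiCompact (hN.app a)] [∀ a, QuasiSeparated (hN.app a)]
  [∀ a, PreservesFiniteLimits (EtCoh.pull (eN.app a))] [PreservesFiniteLimits (EtCoh.pull e)]
  (F : ∀ i : ι, EtCoh.Ab (Ts.obj (op i))) (GT : EtCoh.Ab cT.pt)
  (a₀ : ∀ i, F i ⟶ (EtCoh.push (pr Ts cT i)).obj GT)
  (t : ∀ ⦃i j : ι⦄ (hij : i ≤ j), F i ⟶ (EtCoh.push (uM Ts hij)).obj (F j))
  (fac : ∀ ⦃i j : ι⦄ (hij : i ≤ j), t hij ≫ bmap hij (a₀ j) = a₀ i)
  (coc : ∀ ⦃i j k : ι⦄ (h₁ : i ≤ j) (h₂ : j ≤ k),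
    t (h₁.trans h₂) = t h₁ ≫ (EtCoh.push (uM Ts h₁)).map (t h₂) ≫ tcomp h₁ h₂ (F k))
  (a₀' : ∀ i, (EtCoh.pull (eN.app (op i))).obj (F i) ⟶ (EtCoh.push (pr Ys cY i)).obj ((EtCoh.pull e).obj GT))
  (t' : ∀ ⦃i j : ι⦄ (hij : i ≤ j), (EtCoh.pull (eN.app (op i))).obj (F i) ⟶
    (EtCoh.push (uM Ys hij)).obj ((EtCoh.pull (eN.app (op j))).obj (F j)))
  (fac' : ∀ ⦃i j : ι⦄ (hij : i ≤ j), t' hij ≫ bmap hij (a₀' j) = a₀' i)
  (coc' : ∀ ⦃i j k : ι⦄ (h₁ : i ≤ j) (h₂ : j ≤ k),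
    t' (h₁.trans h₂) = t' h₁ ≫ (EtCoh.push (uM Ys h₁)).map (t' h₂) ≫
      tcomp h₁ h₂ ((EtCoh.pull (eN.app (op k))).obj (F k)))

include hf hg hh in
/-- The comparison on cocycles. -/
theorem bijCoc_limit (haffX : ∀ ⦃a b : ιᵒᵖ⦄ (m : a ⟶ b), IsAffineHom (Xs.map m))
    (haffS : ∀ ⦃a b : ιᵒᵖ⦄ (m : a ⟶ b), IsAffineHom (Ss.map m))
    (haffT : ∀ ⦃a b : ιᵒᵖ⦄ (m : a ⟶ b), IsAffineHom (Ts.map m))
    (haffY : ∀ ⦃a b : ιᵒᵖ⦄ (m : a ⟶ b), IsAffineHom (Ys.map m))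
    (hcX : IsLimit cX) (hcS : IsLimit cS) (hcT : IsLimit cT) (hcY : IsLimit cY)
    (hST : (Sys.mk (c := cT) F GT a₀ t fac coc).IsLim)
    (hSY : (Sys.mk (c := cY) (fun i => (EtCoh.pull (eN.app (op i))).obj (F i)) ((EtCoh.pull e).obj GT)
      a₀' t' fac' coc').IsLim)
    (la : ∀ i, IsLift (pr Ts cT i) (pr Ys cY i) e (eN.app (op i)) _ rfl (he (op i)).symm (a₀ i) (a₀' i))
    (lt : ∀ ⦃i j : ι⦄ (hij : i ≤ j), IsLift (uM Ts hij) (uM Ys hij) (eN.app (op j)) (eN.app (op i)) _ rfl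
      (eN.naturality (homOfLE hij).op) (t hij) (t' hij))
    (q : ℕ)
    (hstage : ∀ i : ι, IsIso (EtBC.bcQ (gN.app (op i)) (fN.app (op i)) (hN.app (op i)) (eN.app (op i))
      (wN (op i)) q (F i)))
    (Ω : Type u) [Field Ω] [IsSepClosed Ω] (ξ : Spec (CommRingCat.of Ω) ⟶ cX.pt)
    (ξS : Spec (CommRingCat.of Ω) ⟶ cS.pt) (hξ : ξ ≫ f = ξS) :
    BijCoc (dst g (injectiveResolution GT).cocomplex ξS)
      (dst h (injectiveResolution ((EtCoh.pull e).obj GT)).cocomplex ξ)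
      (fun k => mor f g h e w ξ ξS hξ ((EtBCQ24.φK e GT).f k)) q := by
  let ST : Sys Ts cT := Sys.mk F GT a₀ t fac coc
  let SY : Sys Ys cY := Sys.mk (fun i => (EtCoh.pull (eN.app (op i))).obj (F i)) ((EtCoh.pull e).obj GT) a₀' t' fac' coc'
  -- resolutions
  let R : InjectiveResolution GT := injectiveResolution GT
  let Ri : ∀ i, InjectiveResolution (F i) := fun i => injectiveResolution (F i)
  let R' : InjectiveResolution ((EtCoh.pull e).obj GT) := injectiveResolution ((EtCoh.pull e).obj GT)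
  let Ri' : ∀ i, InjectiveResolution ((EtCoh.pull (eN.app (op i))).obj (F i)) := fun i => injectiveResolution ((EtCoh.pull (eN.app (op i))).obj (F i))
  choose χ hχ using fun i => exists_chain (pr Ts cT i) (Ri i) R (a₀ i)
  choose τ hτ using fun (i j : ι) (hij : i ≤ j) => exists_chain (uM Ts hij) (Ri i) (Ri j) (t hij)
  choose χ' hχ' using fun i => exists_chain (pr Ys cY i) (Ri' i) R' (a₀' i)
  choose τ' hτ' using fun (i j : ι) (hij : i ≤ j) => exists_chain (uM Ys hij) (Ri' i) (Ri' j) (t' hij)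
  -- the comparison at a point
  have hp : ∀ i, (ξ ≫ pr Xs cX i) ≫ fN.app (op i) = ξS ≫ pr Ss cS i := fun i => by
    rw [← hξ, Category.assoc, Category.assoc]
    exact congrArg (ξ ≫ ·) (hf (op i)).symm
  have hs := fun i => (isIso_bcQ_iff_mor (fN.app (op i)) (gN.app (op i)) (hN.app (op i)) (eN.app (op i))
    (wN (op i)) (F i) q).1 (hstage i) Ω (ξ ≫ pr Xs cX i) (ξS ≫ pr Ss cS i) (hp i)
  have cube := fun j x hx => bd_cube (hg (op j)).symm (hh (op j)).symm (hf (op j)).symm (he (op j)).symm w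
    (wN (op j)) (la j) (hχ j) (hχ' j) (EtBCQ24.ι_φK e GT) (EtBCQ24.ι_φK (eN.app (op j)) (F j))
    ξ ξS (ξ ≫ pr Xs cX j) (ξS ≫ pr Ss cS j) hξ rfl rfl (hp j) q x hx
  refine ⟨fun b hb => ?_, fun a ha hb => ?_⟩
  · obtain ⟨j, a', ha', hab'⟩ := exists_stalk_cocycle hN haffY hcY haffX hcX h hh SY hSY R' Ri' χ' hχ' ξ q b hb
    obtain ⟨a, ha, hab⟩ := (hs j).1 a' ha'
    refine ⟨toLim gN g hg ST R Ri χ ξS j q a,
      dst_mor_eq_zero (pr Ss cS j) (gN.app (op j)) g (pr Ts cT j) _ (χ j) ξS (ξS ≫ pr Ss cS j) rfl ha, ?_⟩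
    have h1 := bd_mor (pr Xs cX j) (hN.app (op j)) h (pr Ys cY j) (hh (op j)).symm (χ' j) ξ (ξ ≫ pr Xs cX j) rfl hab
    rw [map_sub] at h1
    exact bd_trans h1 (cube j a ha) hab'
  · obtain ⟨j, aj, haj, hab⟩ := exists_stalk_cocycle gN haffT hcT haffS hcS g hg ST hST R Ri χ hχ ξS q a ha
    have h1 := bd_mor f g h e w (EtBCQ24.φK e GT) ξ ξS hξ hab
    rw [map_sub] at h1
    have h3 := bd_cancel (cube j aj haj) (bd_cancel h1 hb)
    have hc1 := dst_mor_eq_zero (fN.app (op j)) (gN.app (op j)) (hN.app (op j)) (eN.app (op j)) (wN (op j))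
      (EtBCQ24.φK (eN.app (op j)) (F j)) (ξ ≫ pr Xs cX j) (ξS ≫ pr Ss cS j) (hp j) haj
    obtain ⟨l, hjl, hl⟩ := exists_stalk_bd hN haffY hcY haffX hcX h hh SY hSY R' Ri' χ' hχ' ξ τ' hτ' q j _ hc1 h3
    have sc := bd_cube (gN.naturality (homOfLE hjl).op) (hN.naturality (homOfLE hjl).op)
      (fN.naturality (homOfLE hjl).op) (eN.naturality (homOfLE hjl).op) (wN (op l)) (wN (op j)) (lt hjl) (hτ j l hjl) (hτ' j l hjl)
      (EtBCQ24.ι_φK (eN.app (op l)) (F l)) (EtBCQ24.ι_φK (eN.app (op j)) (F j))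
      (ξ ≫ pr Xs cX l) (ξS ≫ pr Ss cS l) (ξ ≫ pr Xs cX j) (ξS ≫ pr Ss cS j) (hp l)
      ((Category.assoc _ _ _).trans (congrArg (ξ ≫ ·) (pr_w hjl)))
      ((Category.assoc _ _ _).trans (congrArg (ξS ≫ ·) (pr_w hjl))) (hp j) q aj haj
    have h4 := bd_cancel' sc hl
    have hc2 := dst_mor_eq_zero (uM Ss hjl) (gN.app (op j)) (gN.app (op l)) (uM Ts hjl) (gN.naturality _) (τ j l hjl)
      (ξS ≫ pr Ss cS l) (ξS ≫ pr Ss cS j) ((Category.assoc _ _ _).trans (congrArg (ξS ≫ ·) (pr_w hjl))) haj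
    have h5 := bd_mor (pr Ss cS l) (gN.app (op l)) g (pr Ts cT l) (hg (op l)).symm (χ l) ξS (ξS ≫ pr Ss cS l) rfl
      ((hs l).2 _ hc2 h4)
    have hT := bd_mor_comp (uM Ss hjl) (pr Ss cS l) (pr Ss cS j) (pr_w hjl) (gN.app (op j)) (gN.app (op l)) g
      (uM Ts hjl) (pr Ts cT l) (pr Ts cT j) (pr_w hjl) (gN.naturality _) (hg (op l)).symm (hg (op j)).symm
      (τ j l hjl) (χ l) (χ j) (lim_aug ST R Ri χ hχ τ hτ hjl)
      (ξS ≫ pr Ss cS j) (ξS ≫ pr Ss cS l) ξS ((Category.assoc _ _ _).trans (congrArg (ξS ≫ ·) (pr_w hjl))) rfl rfl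
      q aj haj
    exact bd_cancel' hab (bd_cancel' hT h5)

end Core

/-- The base change map of a limit of squares is bijective if those of the stages are. -/
theorem isIso_bcQ_limit (Xs Ss Ts Ys : ιᵒᵖ ⥤ Scheme.{u}) (fN : Xs ⟶ Ss) (gN : Ts ⟶ Ss) (hN : Ys ⟶ Xs)
    (eN : Ys ⟶ Ts) (sq : ∀ a : ιᵒᵖ, IsPullback (eN.app a) (hN.app a) (gN.app a) (fN.app a))
    [∀ a : ιᵒᵖ, QuasiCompact (gN.app a)] [∀ a : ιᵒᵖ, QuasiSeparated (gN.app a)]
    (haffX : ∀ ⦃a b : ιᵒᵖ⦄ (m : a ⟶ b), IsAffineHom (Xs.map m))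
    (haffS : ∀ ⦃a b : ιᵒᵖ⦄ (m : a ⟶ b), IsAffineHom (Ss.map m))
    (haffT : ∀ ⦃a b : ιᵒᵖ⦄ (m : a ⟶ b), IsAffineHom (Ts.map m))
    (haffY : ∀ ⦃a b : ιᵒᵖ⦄ (m : a ⟶ b), IsAffineHom (Ys.map m))
    (cX : Cone Xs) (hcX : IsLimit cX) (cS : Cone Ss) (hcS : IsLimit cS)
    (cT : Cone Ts) (hcT : IsLimit cT) (cY : Cone Ys) (hcY : IsLimit cY)
    (f : cX.pt ⟶ cS.pt) (g : cT.pt ⟶ cS.pt) (h : cY.pt ⟶ cX.pt) (e : cY.pt ⟶ cT.pt)
    (hf : ∀ a, f ≫ cS.π.app a = cX.π.app a ≫ fN.app a) (hg : ∀ a, g ≫ cS.π.app a = cT.π.app a ≫ gN.app a)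
    (hh : ∀ a, h ≫ cX.π.app a = cY.π.app a ≫ hN.app a) (he : ∀ a, e ≫ cT.π.app a = cY.π.app a ≫ eN.app a)
    (w : e ≫ g = h ≫ f)
    [∀ a, PreservesFiniteLimits (EtCoh.pull (eN.app a))] [PreservesFiniteLimits (EtCoh.pull e)]
    (F : ∀ i : ι, EtCoh.Ab (Ts.obj (op i)))
    (φ : ∀ ⦃i j : ι⦄ (hij : i ≤ j), (EtCoh.pull (Ts.map (homOfLE hij).op)).obj (F i) ⟶ F j)
    (hφ : ∀ ⦃i j k : ι⦄ (hij : i ≤ j) (hjk : j ≤ k),
      φ (hij.trans hjk) = (EtLim.pullTrans Ts hij hjk).hom.app (F i) ≫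
        (EtCoh.pull (Ts.map (homOfLE hjk).op)).map (φ hij) ≫ φ hjk)
    (G : ι ⥤ EtCoh.Ab cT.pt) (ψ : ∀ i : ι, (EtCoh.pull (cT.π.app (op i))).obj (F i) ≅ G.obj i)
    (hψ : ∀ ⦃i j : ι⦄ (hij : i ≤ j), (ψ i).hom ≫ G.map (homOfLE hij) =
      (EtLim.pullTransCone Ts cT hij).hom.app (F i) ≫ (EtCoh.pull (cT.π.app (op j))).map (φ hij) ≫ (ψ j).hom)
    (q : ℕ)
    (hstage : ∀ i : ι, IsIso (EtBC.bcQ (gN.app (op i)) (fN.app (op i)) (hN.app (op i)) (eN.app (op i))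
      (sq (op i)).w q (F i))) :
    IsIso (EtBC.bcQ g f h e w q (colimit G)) := by
  haveI : ∀ a, QuasiCompact (hN.app a) := fun a => MorphismProperty.of_isPullback (P := @QuasiCompact) (sq a) inferInstance
  haveI : ∀ a, QuasiSeparated (hN.app a) := fun a => MorphismProperty.of_isPullback (P := @QuasiSeparated) (sq a) inferInstance
  obtain ⟨a, t, fac, coc, a', t', fac', coc', hST, hSY, la, lt⟩ :=
    exists_systems eN e he haffT haffY hcT hcY F φ hφ G ψ hψ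
  exact (isIso_bcQ_iff_mor f g h e w (colimit G) q).2 (bijCoc_limit fN gN hN eN f g h e he hf hg hh w
    (fun a => (sq a).w) F (colimit G) a t fac coc a' t' fac' coc' haffX haffS haffT haffY hcX hcS hcT hcY hST hSY la lt q
    hstage)

end Groth.Agent.StalkLim24
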