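import Groth.Agent.Lib.StalkLim24.StalkForm
import Groth.Agent.Lib.EtLim24.Push

/-!
# Sections moved along maps into direct images, and cocycles at germs
-/

set_option autoImplicit false
set_option linter.style.haveILetI false
set_option linter.unusedSectionVars false
set_option backward.isDefEq.respectTransparency false
set_option backward.isDefEq.respectTransparency.types false

universe u

open CategoryTheory CategoryTheory.Limits AlgebraicGeometry Opposite HomologicalComplex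

namespace Groth.Agent.StalkLim24

open Groth.Agent.EtStalk Groth.Agent.StalkCrit24 Groth.Agent.EtLim24

variable {A B C : Scheme.{u}}

/-- A map into a base change. -/
noncomputable def bcLift (ζ : A ⟶ B) {W : B.Etale} {W' : A.Etale} (z : W'.left ⟶ W.left)
    (hz : z ≫ W.hom = W'.hom ≫ ζ) : W' ⟶ (EtCoh.bc ζ).obj W :=
  MorphismProperty.Over.homMk (pullback.lift z W'.hom hz) (pullback.lift_snd _ _ _)

lemma bcLift_fst (ζ : A ⟶ B) {W : B.Etale} {W' : A.Etale} (z : W'.left ⟶ W.left) (hz : z ≫ W.hom = W'.hom ≫ ζ) :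
    (bcLift ζ z hz).left ≫ pullback.fst W.hom ζ = z :=
  pullback.lift_fst _ _ _

/-- Sections moved along a map into a direct image. -/
noncomputable def mv {ζ : A ⟶ B} {I : EtCoh.Ab B} {J : EtCoh.Ab A} (m : I ⟶ (EtCoh.push ζ).obj J) {W : B.Etale}
    {W' : A.Etale} (κ : W' ⟶ (EtCoh.bc ζ).obj W) : I.obj.obj (op W) →+ J.obj.obj (op W') :=
  (J.obj.map κ.op).hom.comp (m.hom.app (op W)).hom

lemma mv_apply {ζ : A ⟶ B} {I : EtCoh.Ab B} {J : EtCoh.Ab A} (m : I ⟶ (EtCoh.push ζ).obj J) {W : B.Etale}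
    {W' : A.Etale} (κ : W' ⟶ (EtCoh.bc ζ).obj W) (s : I.obj.obj (op W)) :
    mv m κ s = J.obj.map κ.op (m.hom.app (op W) s) := rfl

lemma mv_congr {ζ : A ⟶ B} {I : EtCoh.Ab B} {J : EtCoh.Ab A} (m : I ⟶ (EtCoh.push ζ).obj J) {W : B.Etale}
    {W' : A.Etale} {κ κ' : W' ⟶ (EtCoh.bc ζ).obj W}
    (h : κ.left ≫ pullback.fst W.hom ζ = κ'.left ≫ pullback.fst W.hom ζ) (s : I.obj.obj (op W)) :
    mv m κ s = mv m κ' s := by
  rw [bc_hom_ext h]

lemma map_mv {ζ : A ⟶ B} {I : EtCoh.Ab B} {J : EtCoh.Ab A} (m : I ⟶ (EtCoh.push ζ).obj J) {W : B.Etale}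
    {W' W'' : A.Etale} (κ : W' ⟶ (EtCoh.bc ζ).obj W) (b : W'' ⟶ W') (s : I.obj.obj (op W)) :
    J.obj.map b.op (mv m κ s) = mv m (b ≫ κ) s := by
  rw [mv_apply, mv_apply, op_comp, Functor.map_comp_apply]

lemma mv_map {ζ : A ⟶ B} {I : EtCoh.Ab B} {J : EtCoh.Ab A} (m : I ⟶ (EtCoh.push ζ).obj J) {W W₀ : B.Etale}
    {W' : A.Etale} (κ : W' ⟶ (EtCoh.bc ζ).obj W₀) (a : W₀ ⟶ W) (s : I.obj.obj (op W)) :
    mv m κ (I.obj.map a.op s) = mv m (κ ≫ (EtCoh.bc ζ).map a) s := by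
  rw [mv_apply, mv_apply, NatTrans.naturality_apply m.hom a.op s, op_comp, Functor.map_comp_apply]
  rfl

lemma mv_nat {ζ : A ⟶ B} {I : EtCoh.Ab B} {J J' : EtCoh.Ab A} (m : I ⟶ (EtCoh.push ζ).obj J) (d : J ⟶ J')
    {W : B.Etale} {W' : A.Etale} (κ : W' ⟶ (EtCoh.bc ζ).obj W) (s : I.obj.obj (op W)) :
    d.hom.app (op W') (mv m κ s) = mv (m ≫ (EtCoh.push ζ).map d) κ s := by
  rw [mv_apply, mv_apply, NatTrans.naturality_apply d.hom κ.op]
  rfl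

lemma mv_precomp {ζ : A ⟶ B} {I I' : EtCoh.Ab B} {J : EtCoh.Ab A} (a : I' ⟶ I) (m : I ⟶ (EtCoh.push ζ).obj J)
    {W : B.Etale} {W' : A.Etale} (κ : W' ⟶ (EtCoh.bc ζ).obj W) (s : I'.obj.obj (op W)) :
    mv (a ≫ m) κ s = mv m κ (a.hom.app (op W) s) := rfl

/-- Composites. -/
lemma mv_mv {ζ₁ : B ⟶ C} {ζ₂ : A ⟶ B} {ζ : A ⟶ C} (e : ζ₂ ≫ ζ₁ = ζ) {I : EtCoh.Ab C} {J : EtCoh.Ab B} {K : EtCoh.Ab A}
    (m₁ : I ⟶ (EtCoh.push ζ₁).obj J) (m₂ : J ⟶ (EtCoh.push ζ₂).obj K) {W : C.Etale} {W' : B.Etale} {W'' : A.Etale}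
    (κ₁ : W' ⟶ (EtCoh.bc ζ₁).obj W) (κ₂ : W'' ⟶ (EtCoh.bc ζ₂).obj W') (κ : W'' ⟶ (EtCoh.bc ζ).obj W)
    (hκ : κ.left ≫ pullback.fst W.hom ζ = (κ₂.left ≫ pullback.fst W'.hom ζ₂) ≫ κ₁.left ≫ pullback.fst W.hom ζ₁)
    (s : I.obj.obj (op W)) :
    mv m₂ κ₂ (mv m₁ κ₁ s) = mv (m₁ ≫ (EtCoh.push ζ₁).map m₂ ≫ (pc ζ₂ ζ₁ ζ e).hom.app K) κ s := by
  rw [show mv m₁ κ₁ s = J.obj.map κ₁.op (m₁.hom.app (op W) s) from rfl, mv_map, mv_apply, mv_apply]
  have h1 : (m₁ ≫ (EtCoh.push ζ₁).map m₂ ≫ (pc ζ₂ ζ₁ ζ e).hom.app K).hom.app (op W) s =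
      K.obj.map ((bcc ζ₂ ζ₁ ζ e).inv.app W).op
        (m₂.hom.app (op ((EtCoh.bc ζ₁).obj W)) (m₁.hom.app (op W) s)) :=
    pc_app ζ₂ ζ₁ ζ e K W (m₂.hom.app (op ((EtCoh.bc ζ₁).obj W)) (m₁.hom.app (op W) s))
  rw [h1, ← Functor.map_comp_apply]
  refine congrArg (fun r => K.obj.map r (m₂.hom.app (op ((EtCoh.bc ζ₁).obj W)) (m₁.hom.app (op W) s))) ?_
  refine Quiver.Hom.unop_inj (bc_hom_ext₂ ?_)
  simp only [unop_comp, Quiver.Hom.unop_op, comp_left', Category.assoc]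
  erw [bcc_inv_left_fst ζ₂ ζ₁ ζ e W, hκ]
  rw [← Category.assoc ((EtCoh.bc ζ₂).map κ₁).left, EtBCQ24.map_fst ζ₂ κ₁]
  simp only [Category.assoc]

variable {Ω : Type u} [Field Ω] [IsSepClosed Ω] (ξ : Spec (CommRingCat.of Ω) ⟶ A)

lemma map_fib_left {U V : A.Etale} (g : V ⟶ U) (y : fib ξ V) :
    ((Scheme.pointSmallEtale ξ).fiber.map g y).left = y.left ≫ g.left := rfl

/-- An affine neighbourhood of a point of the fibre. -/
lemma exists_affine_fib (U : A.Etale) (x : fib ξ U) :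
    ∃ (V : A.Etale) (g : V ⟶ U) (y : fib ξ V), IsAffine V.left ∧ (Scheme.pointSmallEtale ξ).fiber.map g y = x := by
  obtain ⟨W, hW, hxW, -⟩ := exists_isAffineOpen_mem_and_subset (X := U.left)
    (x := x.left (IsLocalRing.closedPoint Ω)) (U := ⊤) trivial
  haveI : AlgebraicGeometry.Etale U.hom := U.prop
  let V : A.Etale := Scheme.Etale.mk (W.ι ≫ U.hom)
  let g : V ⟶ U := MorphismProperty.Over.homMk W.ι rfl
  have hr : Set.range x.left.base ⊆ Set.range W.ι.base := by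
    rintro _ ⟨p, rfl⟩
    rw [Scheme.Opens.range_ι, @Subsingleton.elim (Spec (CommRingCat.of Ω)) (inferInstanceAs (Subsingleton (PrimeSpectrum Ω))) p (IsLocalRing.closedPoint Ω)]
    exact hxW
  refine ⟨V, g, Over.homMk (IsOpenImmersion.lift W.ι x.left hr) ?_, hW, Over.OverMorphism.ext (IsOpenImmersion.lift_fac _ _ _)⟩
  show IsOpenImmersion.lift W.ι x.left hr ≫ W.ι ≫ U.hom = ξ
  rw [← Category.assoc, IsOpenImmersion.lift_fac]
  exact Over.w x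

variable {F G : EtCoh.Ab A}

/-- A stalk element killed by a map has an affine representative killed by it. -/
lemma exists_rep_zero (d : F ⟶ G) (p : (EtCoh.stalk ξ).obj F) (hp : (EtCoh.stalk ξ).map d p = 0) :
    ∃ (V : A.Etale) (y : fib ξ V) (s : F.obj.obj (op V)), IsAffine V.left ∧ d.hom.app (op V) s = 0 ∧
      germ ξ F y s = p := by
  obtain ⟨U, x, s, rfl⟩ := germ_surjective ξ F p
  rw [germ_nat, ← map_zero (germ ξ G x).hom] at hp
  obtain ⟨V, g, y, hy, he⟩ := (germ_eq_iff ξ G x _ _).1 hp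
  obtain ⟨V', g', y', hV', hy'⟩ := exists_affine_fib ξ V y
  refine ⟨V', y', F.obj.map (g' ≫ g).op s, hV', ?_, ?_⟩
  · rw [NatTrans.naturality_apply, op_comp, Functor.map_comp_apply, he, map_zero, map_zero]
  · rw [germ_map, FunctorToTypes.map_comp_apply, hy', hy]

lemma bd_germ (Fs : ℕ → EtCoh.Ab A) (d : ∀ k, Fs k ⟶ Fs (k + 1)) {U : A.Etale} (x : fib ξ U) :
    ∀ (n : ℕ) (t : (Fs n).obj.obj (op U)), Bd (fun k => ((d k).hom.app (op U)).hom) n t →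
      Bd (fun k => ((EtCoh.stalk ξ).map (d k)).hom) n (germ ξ (Fs n) x t)
  | 0, t, ht => by
    show germ ξ (Fs 0) x t = 0
    rw [show t = 0 from ht, map_zero]
  | n + 1, t, ht => by
    obtain ⟨c, rfl⟩ := ht
    exact ⟨germ ξ (Fs n) x c, germ_nat ξ (d n) x c⟩

lemma exists_bd_of_germ (Fs : ℕ → EtCoh.Ab A) (d : ∀ k, Fs k ⟶ Fs (k + 1)) {U : A.Etale} (x : fib ξ U) :
    ∀ (n : ℕ) (t : (Fs n).obj.obj (op U)), Bd (fun k => ((EtCoh.stalk ξ).map (d k)).hom) n (germ ξ (Fs n) x t) →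
      ∃ (V : A.Etale) (g : V ⟶ U) (y : fib ξ V), IsAffine V.left ∧ (Scheme.pointSmallEtale ξ).fiber.map g y = x ∧
        Bd (fun k => ((d k).hom.app (op V)).hom) n ((Fs n).obj.map g.op t)
  | 0, t, ht => by
    obtain ⟨V, g, y, hy, he⟩ := (germ_eq_iff ξ (Fs 0) x t 0).1 (by rw [map_zero]; exact ht)
    obtain ⟨V', g', y', hV', hy'⟩ := exists_affine_fib ξ V y
    refine ⟨V', g' ≫ g, y', hV', by rw [FunctorToTypes.map_comp_apply, hy', hy], ?_⟩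
    show (Fs 0).obj.map (g' ≫ g).op t = 0
    rw [op_comp, Functor.map_comp_apply, he, map_zero, map_zero]
  | n + 1, t, ht => by
    obtain ⟨c, hc⟩ := ht
    obtain ⟨W, z, c₀, rfl⟩ := germ_surjective ξ (Fs n) c
    obtain ⟨⟨P, zP⟩, ⟨a, ha⟩, ⟨b, hb⟩, -⟩ :=
      IsCofilteredOrEmpty.cone_objs (C := (Scheme.pointSmallEtale ξ).fiber.Elements) ⟨W, z⟩ ⟨U, x⟩
    have hc' : germ ξ (Fs (n + 1)) zP ((d n).hom.app (op P) ((Fs n).obj.map a.op c₀)) =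
        germ ξ (Fs (n + 1)) zP ((Fs (n + 1)).obj.map b.op t) := by
      rw [← germ_nat, germ_map, germ_map]
      erw [ha, hb]
      exact hc
    obtain ⟨V, g, y, hy, he⟩ := (germ_eq_iff ξ (Fs (n + 1)) zP _ _).1 hc'
    obtain ⟨V', g', y', hV', hy'⟩ := exists_affine_fib ξ V y
    refine ⟨V', g' ≫ g ≫ b, y', hV', ?_, (Fs n).obj.map (g' ≫ g ≫ a).op c₀, ?_⟩
    · rw [FunctorToTypes.map_comp_apply, hy', FunctorToTypes.map_comp_apply, hy]
      exact hb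
    · show (d n).hom.app (op V') ((Fs n).obj.map (g' ≫ g ≫ a).op c₀) = _
      rw [op_comp, op_comp, Functor.map_comp_apply, Functor.map_comp_apply, NatTrans.naturality_apply,
        NatTrans.naturality_apply, he, op_comp, op_comp, Functor.map_comp_apply, Functor.map_comp_apply]

end Groth.Agent.StalkLim24
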