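import Groth.Agent.Lib.EtLim24.Theorem
import Groth.Agent.Lib.EtLim24.Pull
import Groth.Agent.Lib.EtBCQ24.EtaleBC

/-!
# Restriction of a system to an étale scheme over a stage
-/

set_option autoImplicit false
set_option linter.style.haveILetI false
set_option linter.unusedSectionVars false
set_option backward.isDefEq.respectTransparency false
set_option backward.isDefEq.respectTransparency.types false

universe u

open CategoryTheory CategoryTheory.Limits AlgebraicGeometry Opposite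

namespace Groth.Agent.StalkLim24

open Groth.Agent.EtStalk Groth.Agent.EtLim24

section Squares

variable {T T' S S' R R' : Scheme.{u}}

lemma secHom_naturality (g : T ⟶ S) (v : S' ⟶ S) [Etale v] (g' : T' ⟶ S') (t : T' ⟶ T) [Etale t]
    (c : IsPullback t g' g v) {F F' : EtCoh.Ab T} (a : F ⟶ F') :
    (EtShriek.restrAlong v).map ((EtCoh.push g).map a) ≫ EtBCQ24.secHom g v g' t c F' =
      EtBCQ24.secHom g v g' t c F ≫ (EtCoh.push g').map ((EtShriek.restrAlong t).map a) := by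
  refine Sheaf.hom_ext (NatTrans.ext (funext fun U => ?_))
  exact (a.hom.naturality _).symm

variable (p : T ⟶ S) (u : S ⟶ R) (q : T ⟶ R) (e : p ≫ u = q) (p' : T' ⟶ S') (u' : S' ⟶ R') (q' : T' ⟶ R')
  (e' : p' ≫ u' = q') (vT : T' ⟶ T) (vS : S' ⟶ S) (vR : R' ⟶ R) [Etale vT] [Etale vS] [Etale vR]
  (cp : IsPullback vT p' p vS) (cu : IsPullback vS u' u vR) (cq : IsPullback vT q' q vR)

/-- The identifications of sections are compatible with composites. -/
lemma secHom_pc (G : EtCoh.Ab T) :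
    EtBCQ24.secHom u vR u' vS cu ((EtCoh.push p).obj G) ≫
        (EtCoh.push u').map (EtBCQ24.secHom p vS p' vT cp G) ≫
        (pc p' u' q' e').hom.app ((EtShriek.restrAlong vT).obj G) =
      (EtShriek.restrAlong vR).map ((pc p u q e).hom.app G) ≫ EtBCQ24.secHom q vR q' vT cq G := by
  refine Sheaf.hom_ext (NatTrans.ext (funext fun U => ?_))
  obtain ⟨U⟩ := U
  refine AddCommGrpCat.ext fun s => ?_
  show ((pc p' u' q' e').hom.app ((EtShriek.restrAlong vT).obj G)).hom.app (op U)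
      ((EtBCQ24.secHom p vS p' vT cp G).hom.app (op ((EtCoh.bc u').obj U))
        ((EtBCQ24.secHom u vR u' vS cu ((EtCoh.push p).obj G)).hom.app (op U) s)) =
    (EtBCQ24.secHom q vR q' vT cq G).hom.app (op U)
      (((pc p u q e).hom.app G).hom.app (op ((EtShriek.compEtale vR).obj U)) s)
  rw [pc_app, pc_app]
  let A := ((EtShriek.compEtale vT).map ((bcc p' u' q' e').inv.app U)).op
  let B := ((EtBCQ24.secObj p vS p' vT cp).inv.app ((EtCoh.bc u').obj U)).op
  let C := ((EtCoh.bc p).map ((EtBCQ24.secObj u vR u' vS cu).inv.app U)).op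
  let D := ((EtBCQ24.secObj q vR q' vT cq).inv.app U).op
  let E := ((bcc p u q e).inv.app ((EtShriek.compEtale vR).obj U)).op
  show G.obj.map A (G.obj.map B (G.obj.map C s)) = G.obj.map D (G.obj.map E s)
  refine ((congrArg (G.obj.map A) (Functor.map_comp_apply G.obj C B s).symm).trans
    (Functor.map_comp_apply G.obj (C ≫ B) A s).symm).trans (Eq.trans ?_ (Functor.map_comp_apply G.obj E D s))
  dsimp only [A, B, C, D, E]
  refine congrArg (fun r => G.obj.map r s) (Quiver.Hom.unop_inj ?_)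
  refine bc_hom_ext₂ ?_
  simp only [unop_comp, Quiver.Hom.unop_op, comp_left', Category.assoc]
  have h1 := EtBCQ24.secObj_inv_fst u vR u' vS cu U
  have h2 := EtBCQ24.secObj_inv_fst p vS p' vT cp ((EtCoh.bc u').obj U)
  have h3 := EtBCQ24.secObj_inv_fst q vR q' vT cq U
  have h4 := bcc_inv_left_fst p u q e ((EtShriek.compEtale vR).obj U)
  have h5 := bcc_inv_left_fst p' u' q' e' U
  have h6 := EtBCQ24.map_fst p ((EtBCQ24.secObj u vR u' vS cu).inv.app U)
  refine Eq.trans ?_ ((congrArg (fun z => ((EtBCQ24.secObj q vR q' vT cq).inv.app U).left ≫ z) h4).trans h3).symm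
  refine Eq.trans ?_ h5
  refine congrArg (fun z => ((bcc p' u' q' e').inv.app U).left ≫ z) ?_
  refine (congrArg (fun z => ((EtBCQ24.secObj p vS p' vT cp).inv.app _).left ≫ z) ?_).trans
    ((Category.assoc _ _ _).symm.trans ((congrArg (· ≫ _) h2).trans rfl))
  refine ((Category.assoc _ _ _).symm.trans (congrArg (· ≫ _) h6)).trans ?_
  exact (Category.assoc _ _ _).trans (congrArg (fun z => bcFst p _ ≫ z) h1)

end Squares

variable {ι : Type u} [Preorder ι] [IsDirected ι (· ≤ ·)] [Nonempty ι] {Xs : ιᵒᵖ ⥤ Scheme.{u}} {c : Cone Xs}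

/-- The stages after a given one, as a functor. -/
def afterFun (i₀ : ι) : (After i₀)ᵒᵖ ⥤ ιᵒᵖ :=
  (Monotone.functor (f := fun a : After i₀ => a.1) fun _ _ h => h).op

instance final_after (i₀ : ι) : (Monotone.functor (f := fun a : After i₀ => a.1) fun _ _ h => h).Final := by
  refine Functor.final_of_exists_of_isFiltered _ (fun d => ?_) (fun {d a} s s' => ⟨a, 𝟙 _, Subsingleton.elim _ _⟩)
  obtain ⟨k, h₁, h₂⟩ := directed_of (· ≤ ·) i₀ d
  exact ⟨⟨k, h₁⟩, ⟨homOfLE h₂⟩⟩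

instance initial_after (i₀ : ι) : (afterFun i₀).Initial := by
  unfold afterFun
  infer_instance

variable (i₀ : ι) (V : (Xs.obj (op i₀)).Etale)

/-- The maps to the given stage. -/
def toStage : afterFun i₀ ⋙ Xs ⟶ (Functor.const (After i₀)ᵒᵖ).obj (Xs.obj (op i₀)) where
  app a := uM Xs a.unop.2
  naturality a b h := by
    show Xs.map _ ≫ Xs.map _ = Xs.map _ ≫ 𝟙 _
    rw [Category.comp_id, ← Functor.map_comp]
    rfl

/-- The restricted inverse system. -/
noncomputable abbrev Ys : (After i₀)ᵒᵖ ⥤ Scheme.{u} := Descend.pbDiagram (afterFun i₀ ⋙ Xs) (toStage i₀) V.hom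

/-- The restricted limit. -/
noncomputable abbrev cY : Cone (Ys i₀ V) :=
  Descend.pbCone (afterFun i₀ ⋙ Xs) (toStage i₀) V.hom (c.whisker (afterFun i₀))
    (q := c.π.app (op i₀)) (fun a => c.w (homOfLE a.unop.2).op) (IsPullback.of_hasPullback V.hom (c.π.app (op i₀)))

/-- The restricted limit is a limit. -/
noncomputable def isLimit_cY (hc : IsLimit c) : IsLimit (cY (c := c) i₀ V) :=
  Descend.pbIsLimit _ _ _ _ _ _ ((Functor.Initial.isLimitWhiskerEquiv (afterFun i₀) c).symm hc)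

lemma isAffineHom_Ys (haff : ∀ ⦃a b : ιᵒᵖ⦄ (h : a ⟶ b), IsAffineHom (Xs.map h)) ⦃a b : (After i₀)ᵒᵖ⦄ (h : a ⟶ b) :
    IsAffineHom ((Ys i₀ V).map h) := by
  haveI : ∀ k, IsAffineHom ((toStage (Xs := Xs) i₀).app k) := fun k => haff _
  haveI : ∀ {a b : (After i₀)ᵒᵖ} (h : a ⟶ b), IsAffineHom ((afterFun i₀ ⋙ Xs).map h) := fun h => haff _
  exact Descend.pb_isAffineHom_map _ _ _ h

/-- The structure map of a restricted stage. -/
noncomputable abbrev vS (a : After i₀) : (Ys i₀ V).obj (op a) ⟶ Xs.obj (op a.1) :=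
  pullback.snd V.hom (uM Xs a.2)

/-- The structure map of the restricted limit. -/
noncomputable abbrev vL : (cY (c := c) i₀ V).pt ⟶ c.pt := pullback.snd V.hom (c.π.app (op i₀))

instance etale_vS (a : After i₀) : Etale (vS i₀ V a) := ((EtCoh.bc (uM Xs a.2)).obj V).prop

instance etale_vL : Etale (vL (c := c) i₀ V) := ((EtCoh.bc (c.π.app (op i₀))).obj V).prop

lemma sq_lim (a : After i₀) :
    IsPullback (vL (c := c) i₀ V) (pr (Ys i₀ V) (cY (c := c) i₀ V) a) (pr Xs c a.1) (vS i₀ V a) :=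
  (Descend.pbCone_isPullback (afterFun i₀ ⋙ Xs) (toStage i₀) V.hom (c.whisker (afterFun i₀))
    (fun b => c.w (homOfLE b.unop.2).op) (IsPullback.of_hasPullback V.hom (c.π.app (op i₀))) (op a)).flip

lemma sq_map {a b : After i₀} (h : a ≤ b) :
    IsPullback (vS i₀ V b) (uM (Ys i₀ V) h) (uM Xs (h : a.1 ≤ b.1)) (vS i₀ V a) :=
  (Descend.pbMap_isPullback (afterFun i₀ ⋙ Xs) (toStage i₀) V.hom (homOfLE h).op).flip

variable (S : Sys Xs c)

/-- The restricted system. -/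
noncomputable def restrS : Sys (Ys i₀ V) (cY (c := c) i₀ V) where
  F a := (EtShriek.restrAlong (vS i₀ V a)).obj (S.F a.1)
  G := (EtShriek.restrAlong (vL (c := c) i₀ V)).obj S.G
  a a := (EtShriek.restrAlong (vS i₀ V a)).map (S.a a.1) ≫
    EtBCQ24.secHom (pr Xs c a.1) (vS i₀ V a) (pr (Ys i₀ V) (cY (c := c) i₀ V) a) (vL (c := c) i₀ V) (sq_lim i₀ V a) S.G
  t a b h := (EtShriek.restrAlong (vS i₀ V a)).map (S.t h) ≫
    EtBCQ24.secHom (uM Xs (h : a.1 ≤ b.1)) (vS i₀ V a) (uM (Ys i₀ V) h) (vS i₀ V b) (sq_map i₀ V h) (S.F b.1)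
  fac a b h := by
    rw [bmap, Category.assoc, Functor.map_comp, Category.assoc]
    erw [← reassoc_of% (secHom_naturality (uM Xs (h : a.1 ≤ b.1)) (vS i₀ V a) (uM (Ys i₀ V) h) (vS i₀ V b)
      (sq_map i₀ V h) (S.a b.1))]
    erw [secHom_pc (pr Xs c b.1) (uM Xs (h : a.1 ≤ b.1)) (pr Xs c a.1) (pr_w (c := c) (i := a.1) (j := b.1) h) (pr (Ys i₀ V) (cY (c := c) i₀ V) b)
      (uM (Ys i₀ V) h) (pr (Ys i₀ V) (cY (c := c) i₀ V) a) (pr_w (c := cY (c := c) i₀ V) h) (vL (c := c) i₀ V) (vS i₀ V b) (vS i₀ V a) (sq_lim i₀ V b)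
      (sq_map i₀ V h) (sq_lim i₀ V a) S.G]
    rw [← Functor.map_comp_assoc, ← Functor.map_comp_assoc, ← S.fac (h : a.1 ≤ b.1)]
    simp [bmap]
  cocycle a b k h₁ h₂ := by
    rw [S.cocycle h₁ h₂]
    simp only [Functor.map_comp, Category.assoc, tcomp]
    erw [← reassoc_of% (secHom_naturality (uM Xs (h₁ : a.1 ≤ b.1)) (vS i₀ V a) (uM (Ys i₀ V) h₁) (vS i₀ V b)
      (sq_map i₀ V h₁) (S.t h₂))]
    erw [secHom_pc (uM Xs (h₂ : b.1 ≤ k.1)) (uM Xs (h₁ : a.1 ≤ b.1)) (uM Xs ((h₁ : a.1 ≤ b.1).trans h₂))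
      (uM_comp _ _) (uM (Ys i₀ V) h₂) (uM (Ys i₀ V) h₁) (uM (Ys i₀ V) (h₁.trans h₂)) (uM_comp _ _)
      (vS i₀ V k) (vS i₀ V b) (vS i₀ V a) (sq_map i₀ V h₂) (sq_map i₀ V h₁) (sq_map i₀ V (h₁.trans h₂)) (S.F k.1)]

lemma qcqs_compEtale {A B : Scheme.{u}} (v : A ⟶ B) [Etale v] (U : A.Etale) [h : CompactSpace U.left]
    [h' : QuasiSeparatedSpace U.left] :
    CompactSpace ((EtShriek.compEtale v).obj U).left ∧ QuasiSeparatedSpace ((EtShriek.compEtale v).obj U).left :=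
  ⟨h, h'⟩

lemma bijective_secHom {T T' S S' : Scheme.{u}} (g : T ⟶ S) (v : S' ⟶ S) [Etale v] (g' : T' ⟶ S') (t : T' ⟶ T)
    [Etale t] (c : IsPullback t g' g v) (F : EtCoh.Ab T) (U : S'.Etale) :
    Function.Bijective ((EtBCQ24.secHom g v g' t c F).hom.app (op U)) :=
  haveI : IsIso ((EtBCQ24.secHom g v g' t c F).hom.app (op U)) :=
    inferInstanceAs (IsIso (((sheafToPresheaf _ _).map (EtBCQ24.secHom g v g' t c F)).app (op U)))
  ConcreteCategory.bijective_of_isIso _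

theorem isLim_restrS (hS : S.IsLim) : (restrS i₀ V S).IsLim where
  surj a U hU hU' s := by
    obtain ⟨hW, hW'⟩ := @qcqs_compEtale _ _ (vS i₀ V a) _ U hU hU'
    obtain ⟨s', rfl⟩ := (bijective_secHom (pr Xs c a.1) (vS i₀ V a) (pr (Ys i₀ V) (cY (c := c) i₀ V) a) (vL (c := c) i₀ V)
      (sq_lim i₀ V a) S.G U).2 s
    obtain ⟨j, h, y, hy⟩ := hS.surj a.1 ((EtShriek.compEtale (vS i₀ V a)).obj U) hW hW' s'
    let b : After i₀ := ⟨j, a.2.trans h⟩
    refine ⟨b, h, (EtBCQ24.secHom (uM Xs h) (vS i₀ V a) (uM (Ys i₀ V) (show a ≤ b from h)) (vS i₀ V b)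
      (sq_map i₀ V (show a ≤ b from h)) (S.F j)).hom.app (op U) y, ?_⟩
    refine Eq.trans ?_ (congrArg _ hy)
    have e : EtBCQ24.secHom (uM Xs h) (vS i₀ V a) (uM (Ys i₀ V) (show a ≤ b from h)) (vS i₀ V b)
          (sq_map i₀ V (show a ≤ b from h)) (S.F j) ≫
          bmap (show a ≤ b from h) ((restrS i₀ V S).a b) =
        (EtShriek.restrAlong (vS i₀ V a)).map (bmap h (S.a j)) ≫
          EtBCQ24.secHom (pr Xs c a.1) (vS i₀ V a) (pr (Ys i₀ V) (cY (c := c) i₀ V) a) (vL (c := c) i₀ V) (sq_lim i₀ V a) S.G := by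
      simp only [restrS, bmap, Functor.map_comp, Category.assoc]
      erw [← reassoc_of% (secHom_naturality (uM Xs h) (vS i₀ V a) (uM (Ys i₀ V) (show a ≤ b from h)) (vS i₀ V b)
        (sq_map i₀ V (show a ≤ b from h)) (S.a j))]
      erw [secHom_pc (pr Xs c j) (uM Xs h) (pr Xs c a.1) (pr_w (c := c) (i := a.1) (j := b.1) h) (pr (Ys i₀ V) (cY (c := c) i₀ V) b)
        (uM (Ys i₀ V) (show a ≤ b from h)) (pr (Ys i₀ V) (cY (c := c) i₀ V) a) (pr_w _) (vL (c := c) i₀ V) (vS i₀ V b) (vS i₀ V a)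
        (sq_lim i₀ V b) (sq_map i₀ V (show a ≤ b from h)) (sq_lim i₀ V a) S.G]
    exact congrArg (fun m : (EtShriek.restrAlong (vS i₀ V a)).obj ((EtCoh.push (uM Xs h)).obj (S.F j)) ⟶
      (EtCoh.push (pr (Ys i₀ V) (cY (c := c) i₀ V) a)).obj ((EtShriek.restrAlong (vL (c := c) i₀ V)).obj S.G) =>
        m.hom.app (op U) y) e
  inj a U hU hU' s hs := by
    obtain ⟨hW, hW'⟩ := @qcqs_compEtale _ _ (vS i₀ V a) _ U hU hU'
    have h0 : (S.a a.1).hom.app (op ((EtShriek.compEtale (vS i₀ V a)).obj U)) s = 0 :=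
      (bijective_secHom (pr Xs c a.1) (vS i₀ V a) (pr (Ys i₀ V) (cY (c := c) i₀ V) a) (vL (c := c) i₀ V) (sq_lim i₀ V a) S.G U).1
        (hs.trans (map_zero _).symm)
    obtain ⟨j, h, hj⟩ := hS.inj a.1 ((EtShriek.compEtale (vS i₀ V a)).obj U) hW hW' s h0
    refine ⟨⟨j, a.2.trans h⟩, h, ?_⟩
    show (EtBCQ24.secHom _ _ _ _ _ (S.F j)).hom.app (op U)
      ((S.t h).hom.app (op ((EtShriek.compEtale (vS i₀ V a)).obj U)) s) = 0
    rw [hj]
    exact map_zero _

end Groth.Agent.StalkLim24
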