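import Groth.Agent.Lib.StalkLim24.TopColim
import Groth.Agent.Lib.StalkLim24.Restr

/-!
# Cocycles of sections over an étale scheme over a stage
-/

set_option autoImplicit false
set_option linter.style.haveILetI false
set_option linter.unusedSectionVars false
set_option backward.isDefEq.respectTransparency false
set_option backward.isDefEq.respectTransparency.types false

universe u

open CategoryTheory CategoryTheory.Limits AlgebraicGeometry Opposite

namespace Groth.Agent.StalkLim24

open Groth.Agent.EtStalk Groth.Agent.StrictLim24 Groth.Agent.StalkCrit24 Groth.Agent.EtLim24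

variable {A B : Scheme.{u}} (v : A ⟶ B) [Etale v]

lemma injective_restr (G : EtCoh.Ab B) [Injective G] : Injective ((EtShriek.restrAlong v).obj G) :=
  haveI := EtStalk.injective_pull v G
  Injective.of_iso ((restrPullIso v).app G).symm inferInstance

instance preservesFiniteLimits_restr : PreservesFiniteLimits (EtShriek.restrAlong v) :=
  preservesFiniteLimits_of_natIso (restrPullIso v).symm

instance preservesFiniteColimits_restr : PreservesFiniteColimits (EtShriek.restrAlong v) :=
  preservesFiniteColimits_of_natIso (restrPullIso v).symm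

instance additive_restr : (EtShriek.restrAlong v).Additive :=
  Functor.additive_of_iso (restrPullIso v).symm

/-- The restricted resolution. -/
noncomputable def restrRes {F : EtCoh.Ab B} (R : InjectiveResolution F) :
    InjectiveResolution ((EtShriek.restrAlong v).obj F) where
  cocomplex := ((EtShriek.restrAlong v).mapHomologicalComplex (ComplexShape.up ℕ)).obj R.cocomplex
  injective n := injective_restr v (trm R n)
  ι := RDer.mapAug (EtShriek.restrAlong v) R.ι
  quasiIso := by
    show _root_.QuasiIso ((HomologicalComplex.singleMapHomologicalComplex (EtShriek.restrAlong v) (ComplexShape.up ℕ) 0).inv.app F ≫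
      ((EtShriek.restrAlong v).mapHomologicalComplex (ComplexShape.up ℕ)).map R.ι)
    infer_instance

lemma restrRes_ι {F : EtCoh.Ab B} (R : InjectiveResolution F) :
    (restrRes v R).ι.f 0 = (EtShriek.restrAlong v).map (R.ι.f 0) :=
  EtBCQ24.mapAug_f_zero _ _

lemma bd_map {X : Scheme.{u}} {F : EtCoh.Ab X} (R : InjectiveResolution F) {U W : X.Etale} (θ : U ⟶ W) [IsIso θ]
    (n : ℕ) (s : tsec R W n) :
    Bd (dsec R U) n ((trm R n).obj.map θ.op s) ↔ Bd (dsec R W) n s :=
  bd_iff (dC := dsec R W) (dC' := dsec R U) (fun k => ((trm R k).obj.map θ.op).hom)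
    (fun k => ConcreteCategory.bijective_of_isIso ((trm R k).obj.map θ.op))
    (fun k x => (NatTrans.naturality_apply (HomologicalComplex.d (c := ComplexShape.up ℕ) R.cocomplex k (k + 1)).hom θ.op x).symm)
    n s

variable {T T' S S' : Scheme.{u}} (g : T ⟶ S) (w : S' ⟶ S) [Etale w] (g' : T' ⟶ S') (t : T' ⟶ T) [Etale t]
  (c : IsPullback t g' g w) {F : EtCoh.Ab S} {G : EtCoh.Ab T} {RS : InjectiveResolution F} {RT : InjectiveResolution G}

/-- A map of resolutions, restricted. -/
noncomputable def restrChain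
    (χ : RS.cocomplex ⟶ ((EtCoh.push g).mapHomologicalComplex (ComplexShape.up ℕ)).obj RT.cocomplex) :
    (restrRes w RS).cocomplex ⟶ ((EtCoh.push g').mapHomologicalComplex (ComplexShape.up ℕ)).obj (restrRes t RT).cocomplex where
  f k := (EtShriek.restrAlong w).map (χ.f k) ≫ EtBCQ24.secHom g w g' t c (trm RT k)
  comm' k l _ := by
    show ((EtShriek.restrAlong w).map (χ.f k) ≫ _) ≫ (EtCoh.push g').map ((EtShriek.restrAlong t).map _) =
      (EtShriek.restrAlong w).map _ ≫ (EtShriek.restrAlong w).map (χ.f l) ≫ _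
    rw [Category.assoc, ← secHom_naturality g w g' t c, ← Functor.map_comp_assoc, ← Functor.map_comp_assoc]
    exact congrArg (fun z => (EtShriek.restrAlong w).map z ≫ EtBCQ24.secHom g w g' t c _) (χ.comm k l)

lemma restrChain_zero (χ : RS.cocomplex ⟶ ((EtCoh.push g).mapHomologicalComplex (ComplexShape.up ℕ)).obj RT.cocomplex)
    (a : F ⟶ (EtCoh.push g).obj G) (hχ : RS.ι.f 0 ≫ χ.f 0 = a ≫ (EtCoh.push g).map (RT.ι.f 0)) :
    (restrRes w RS).ι.f 0 ≫ (restrChain g w g' t c χ).f 0 =
      ((EtShriek.restrAlong w).map a ≫ EtBCQ24.secHom g w g' t c G) ≫ (EtCoh.push g').map ((restrRes t RT).ι.f 0) := by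
  rw [restrRes_ι, restrRes_ι, Category.assoc, ← secHom_naturality g w g' t c]
  show (EtShriek.restrAlong w).map (RS.ι.f 0) ≫ (EtShriek.restrAlong w).map (χ.f 0) ≫ _ = _
  rw [← Functor.map_comp_assoc, ← Functor.map_comp_assoc]
  exact congrArg (fun z => (EtShriek.restrAlong w).map z ≫ EtBCQ24.secHom g w g' t c _) hχ

/-- The top of an étale scheme is the scheme itself. -/
noncomputable def θtop {V : S.Etale} {W : Scheme.{u}} (p : W ⟶ S) [Etale p] (e : W = V.left) (he : eqToHom e ≫ V.hom = p) :
    (EtShriek.compEtale p).obj (EtCoh.top W) ≅ V :=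
  MorphismProperty.Over.isoMk (eqToIso e) (he.trans (Category.id_comp p).symm)

lemma psec_restrChain {F₁ : EtCoh.Ab S} {F₂ : EtCoh.Ab T} (m : F₁ ⟶ (EtCoh.push g).obj F₂)
    {V : S.Etale} (θ : (EtShriek.compEtale w).obj (EtCoh.top S') ⟶ V) {VT : T.Etale}
    (θ' : (EtShriek.compEtale t).obj (EtCoh.top T') ⟶ VT) (κ : VT ⟶ (EtCoh.bc g).obj V)
    (hθ : θ'.left ≫ κ.left ≫ pullback.fst V.hom g = g' ≫ θ.left) (s : F₁.obj.obj (op V)) :
    psec g' ((EtShriek.restrAlong w).map m ≫ EtBCQ24.secHom g w g' t c F₂) (F₁.obj.map θ.op s) =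
      F₂.obj.map θ'.op (F₂.obj.map κ.op (m.hom.app (op V) s)) := by
  show F₂.obj.map ((EtShriek.compEtale t).map (topUp g')).op
      (F₂.obj.map ((EtBCQ24.secObj g w g' t c).inv.app (EtCoh.top S')).op
        (m.hom.app (op ((EtShriek.compEtale w).obj (EtCoh.top S'))) (F₁.obj.map θ.op s))) = _
  rw [NatTrans.naturality_apply m.hom θ.op s]
  let a := ((EtShriek.compEtale t).map (topUp g')).op
  let b := ((EtBCQ24.secObj g w g' t c).inv.app (EtCoh.top S')).op
  let d := ((EtCoh.bc g).map θ).op
  show F₂.obj.map a (F₂.obj.map b (F₂.obj.map d (m.hom.app (op V) s))) = _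
  refine ((congrArg (F₂.obj.map a) (Functor.map_comp_apply F₂.obj d b _).symm).trans
    (Functor.map_comp_apply F₂.obj (d ≫ b) a _).symm).trans (Eq.trans ?_ (Functor.map_comp_apply F₂.obj κ.op θ'.op _))
  refine congrArg (fun r => F₂.obj.map r (m.hom.app (op V) s)) (Quiver.Hom.unop_inj ?_)
  refine bc_hom_ext ?_
  dsimp only [a, b, d]
  simp only [unop_comp, Quiver.Hom.unop_op, comp_left', Category.assoc]
  rw [hθ]
  refine (congrArg (fun z => _ ≫ _ ≫ z) (EtBCQ24.map_fst g θ)).trans ?_
  refine (congrArg (fun z => _ ≫ z) ((Category.assoc _ _ _).symm.trans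
    (congrArg (· ≫ θ.left) (EtBCQ24.secObj_inv_fst g w g' t c (EtCoh.top S'))))).trans ?_
  exact (Category.assoc _ _ _).symm.trans (congrArg (· ≫ θ.left) (topLift_fst g' (EtCoh.top S') g' (Category.comp_id g')))

end Groth.Agent.StalkLim24
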