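import Groth.Agent.Lib.StalkLim24.SecCoc

/-!
# Cocycles of sections on a limit come from a stage
-/

set_option autoImplicit false
set_option linter.style.haveILetI false
set_option linter.unusedSectionVars false
set_option backward.isDefEq.respectTransparency false
set_option backward.isDefEq.respectTransparency.types false

universe u

open CategoryTheory CategoryTheory.Limits AlgebraicGeometry Opposite

namespace Groth.Agent.StalkLim24

open Groth.Agent.EtStalk Groth.Agent.StrictLim24 Groth.Agent.StalkCrit24 Groth.Agent.EtLim24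

variable {ι : Type u} [Preorder ι] [IsDirected ι (· ≤ ·)] [Nonempty ι] {Xs : ιᵒᵖ ⥤ Scheme.{u}} {c : Cone Xs}
  (i₀ : ι) (V : (Xs.obj (op i₀)).Etale)

lemma bd_restr {A B : Scheme.{u}} (v : A ⟶ B) [Etale v] {F : EtCoh.Ab B} (R : InjectiveResolution F) (U : A.Etale) (n : ℕ)
    (z : tsec (restrRes v R) U n) :
    Bd (dsec (restrRes v R) U) n z ↔ Bd (dsec R ((EtShriek.compEtale v).obj U)) n z := by
  cases n <;> rfl

lemma bd_restr_sub {A B : Scheme.{u}} (v : A ⟶ B) [Etale v] {F : EtCoh.Ab B} (R : InjectiveResolution F) (U : A.Etale)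
    (n : ℕ) (a b : tsec R ((EtShriek.compEtale v).obj U) n) :
    Bd (dsec (restrRes v R) U) n ((show tsec (restrRes v R) U n from a) - (show tsec (restrRes v R) U n from b)) ↔
      Bd (dsec R ((EtShriek.compEtale v).obj U)) n (a - b) :=
  bd_restr v R U n _

omit [IsDirected ι (· ≤ ·)] [Nonempty ι] in
lemma bmap_app {i j : ι} (h : i ≤ j) {F : EtCoh.Ab (Xs.obj (op j))} {G : EtCoh.Ab c.pt}
    (m : F ⟶ (EtCoh.push (pr Xs c j)).obj G) (U : (Xs.obj (op i)).Etale)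
    (s : F.obj.obj (op ((EtCoh.bc (uM Xs h)).obj U))) :
    (bmap h m).hom.app (op U) s =
      G.obj.map ((bcc (pr Xs c j) (uM Xs h) (pr Xs c i) (pr_w h)).inv.app U).op
        (m.hom.app (op ((EtCoh.bc (uM Xs h)).obj U)) s) :=
  pc_app (pr Xs c j) (uM Xs h) (pr Xs c i) (pr_w h) G U (m.hom.app (op ((EtCoh.bc (uM Xs h)).obj U)) s)

/-- The top of a restricted stage. -/
noncomputable def θS (a : After i₀) :
    (EtShriek.compEtale (vS i₀ V a)).obj (EtCoh.top ((Ys i₀ V).obj (op a))) ≅ (EtCoh.bc (uM Xs a.2)).obj V :=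
  MorphismProperty.Over.isoMk (Iso.refl (pullback V.hom (uM Xs a.2)))
    ((Category.id_comp (pullback.snd V.hom (uM Xs a.2))).trans (Category.id_comp _).symm)

lemma θS_left (a : After i₀) : (θS i₀ V a).hom.left = 𝟙 (pullback V.hom (uM Xs a.2)) := rfl

/-- The top of the restricted limit. -/
noncomputable def θL :
    (EtShriek.compEtale (vL (c := c) i₀ V)).obj (EtCoh.top (cY (c := c) i₀ V).pt) ≅ (EtCoh.bc (pr Xs c i₀)).obj V :=
  MorphismProperty.Over.isoMk (Iso.refl (pullback V.hom (c.π.app (op i₀))))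
    ((Category.id_comp (pullback.snd V.hom (c.π.app (op i₀)))).trans (Category.id_comp _).symm)

lemma θL_left : (θL (c := c) i₀ V).hom.left = 𝟙 (pullback V.hom (c.π.app (op i₀))) := rfl

lemma uM_refl : uM Xs (le_refl i₀) = 𝟙 _ := by
  show Xs.map (homOfLE (le_refl i₀)).op = _
  rw [show (homOfLE (le_refl i₀)).op = 𝟙 (op i₀) from Subsingleton.elim _ _, CategoryTheory.Functor.map_id]

/-- The first stage maps to the given étale scheme. -/
noncomputable def θ₀ : (EtShriek.compEtale (vS i₀ V ⟨i₀, le_rfl⟩)).obj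
    (EtCoh.top ((Ys i₀ V).obj (op ⟨i₀, le_rfl⟩))) ⟶ V :=
  MorphismProperty.Over.homMk (pullback.fst V.hom (uM Xs (le_refl i₀))) (by
    show pullback.fst V.hom (uM Xs (le_refl i₀)) ≫ V.hom = 𝟙 _ ≫ pullback.snd V.hom (uM Xs (le_refl i₀))
    rw [pullback.condition, Category.id_comp]
    exact (congrArg (fun z => pullback.snd V.hom (uM Xs (le_refl i₀)) ≫ z) (uM_refl i₀)).trans (Category.comp_id _))

lemma θ₀_left : (θ₀ i₀ V).left = pullback.fst V.hom (uM Xs (le_refl i₀)) := rfl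

instance isIso_θ₀ : IsIso (θ₀ i₀ V) := by
  haveI : IsIso (uM Xs (le_refl i₀)) := by rw [uM_refl]; infer_instance
  let e : (EtShriek.compEtale (vS i₀ V ⟨i₀, le_rfl⟩)).obj (EtCoh.top ((Ys i₀ V).obj (op ⟨i₀, le_rfl⟩))) ≅ V :=
    MorphismProperty.Over.isoMk (asIso (pullback.fst V.hom (uM Xs (le_refl i₀)))) (MorphismProperty.Over.w (θ₀ i₀ V))
  exact (show θ₀ i₀ V = e.hom from MorphismProperty.Over.Hom.ext rfl) ▸ inferInstance

variable [∀ a, PreservesFiniteLimits (EtCoh.pull (c.π.app a))]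
  [∀ ⦃a b : ιᵒᵖ⦄ (h : a ⟶ b), PreservesFiniteLimits (EtCoh.pull (Xs.map h))]
  (haff : ∀ ⦃a b : ιᵒᵖ⦄ (h : a ⟶ b), IsAffineHom (Xs.map h)) (hc : IsLimit c) (S : Sys Xs c) (hS : S.IsLim)
  (R : InjectiveResolution S.G) (Ri : ∀ i, InjectiveResolution (S.F i))
  (χ : ∀ i, (Ri i).cocomplex ⟶ ((EtCoh.push (pr Xs c i)).mapHomologicalComplex (ComplexShape.up ℕ)).obj R.cocomplex)
  (hχ : ∀ i, (Ri i).ι.f 0 ≫ (χ i).f 0 = S.a i ≫ (EtCoh.push (pr Xs c i)).map (R.ι.f 0))
  [CompactSpace V.left] [QuasiSeparatedSpace V.left]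

lemma qcqs_Ys (haff : ∀ ⦃a b : ιᵒᵖ⦄ (h : a ⟶ b), IsAffineHom (Xs.map h)) (a : After i₀) :
    CompactSpace ↥((Ys i₀ V).obj (op a)) ∧ QuasiSeparatedSpace ↥((Ys i₀ V).obj (op a)) :=
  qcqs_bc (uM Xs a.2) (haff _) V

include haff hc hS hχ in
/-- A cocycle on the limit is, up to coboundary, the image of a cocycle at a stage. -/
theorem exists_cocycle (q : ℕ) (s : tsec R ((EtCoh.bc (pr Xs c i₀)).obj V) q)
    (hs : dsec R ((EtCoh.bc (pr Xs c i₀)).obj V) q s = 0) :
    ∃ (j : ι) (h : i₀ ≤ j) (sj : tsec (Ri j) ((EtCoh.bc (uM Xs h)).obj V) q),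
      dsec (Ri j) ((EtCoh.bc (uM Xs h)).obj V) q sj = 0 ∧
      Bd (dsec R ((EtCoh.bc (pr Xs c i₀)).obj V)) q
        ((show tsec R ((EtCoh.bc (pr Xs c i₀)).obj V) q from (bmap h ((χ j).f q)).hom.app (op V) sj) - s) := by
  haveI := fun a : After i₀ => (qcqs_Ys i₀ V haff a).1
  haveI := fun a : After i₀ => (qcqs_Ys i₀ V haff a).2
  let R' := restrRes (vL (c := c) i₀ V) R
  let Ri' := fun a : After i₀ => restrRes (vS i₀ V a) (Ri a.1)
  let χ' := fun a : After i₀ => restrChain (pr Xs c a.1) (vS i₀ V a) (pr (Ys i₀ V) (cY (c := c) i₀ V) a)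
    (vL (c := c) i₀ V) (sq_lim i₀ V a) (χ a.1)
  let θ' := (θL (c := c) i₀ V).hom
  obtain ⟨a, z, hz, hb⟩ := exists_top_cocycle (isAffineHom_Ys i₀ V haff) (isLimit_cY i₀ V hc) (restrS i₀ V S)
    (isLim_restrS i₀ V S hS) R' Ri' χ'
    (fun a => restrChain_zero (pr Xs c a.1) (vS i₀ V a) (pr (Ys i₀ V) (cY (c := c) i₀ V) a)
      (vL (c := c) i₀ V) (sq_lim i₀ V a) (χ a.1) (S.a a.1) (hχ a.1))
    q ((trm R q).obj.map θ'.op s) (by
      refine ((NatTrans.naturality_apply (HomologicalComplex.d (c := ComplexShape.up ℕ) R.cocomplex q (q + 1)).hom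
        θ'.op s).trans ?_)
      show (trm R (q + 1)).obj.map θ'.op (dsec R _ q s) = 0
      rw [hs, map_zero])
  let W := (EtCoh.bc (uM Xs a.2)).obj V
  let θ := (θS i₀ V a).hom
  obtain ⟨sj, rfl⟩ := (ConcreteCategory.bijective_of_isIso ((trm (Ri a.1) q).obj.map θ.op)).2 z
  refine ⟨a.1, a.2, sj, ?_, ?_⟩
  · refine (ConcreteCategory.bijective_of_isIso ((trm (Ri a.1) (q + 1)).obj.map θ.op)).1 ?_
    rw [map_zero]
    exact (NatTrans.naturality_apply (HomologicalComplex.d (c := ComplexShape.up ℕ) (Ri a.1).cocomplex q (q + 1)).hom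
        θ.op sj).symm.trans hz
  · rw [← bd_map R θ' q, map_sub]
    have e := psec_restrChain (pr Xs c a.1) (vS i₀ V a) (pr (Ys i₀ V) (cY (c := c) i₀ V) a) (vL (c := c) i₀ V)
      (sq_lim i₀ V a) ((χ a.1).f q) (V := W) θ θ'
      ((bcc (pr Xs c a.1) (uM Xs a.2) (pr Xs c i₀) (pr_w a.2)).inv.app V) (by
        rw [θS_left, θL_left]
        refine (Category.id_comp _).trans ?_
        refine Eq.trans ?_ (Category.comp_id _).symm
        refine pullback.hom_ext ?_ ?_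
        · refine (Category.assoc _ _ _).trans ((bcc_inv_left_fst _ _ _ _ V).trans ?_)
          exact (Descend.pbCone_fst _ _ _ _ _ _ (op a)).symm
        · refine (Category.assoc _ _ _).trans ?_
          refine (congrArg (fun z => _ ≫ z) (fst_hom W)).trans ?_
          refine (Category.assoc _ _ _).symm.trans ?_
          refine (congrArg (· ≫ pr Xs c a.1) (MorphismProperty.Over.w _)).trans ?_
          exact (Descend.pbCone_snd (afterFun i₀ ⋙ Xs) (toStage i₀) V.hom (c.whisker (afterFun i₀))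
            (fun b => c.w (homOfLE b.unop.2).op) (IsPullback.of_hasPullback V.hom (c.π.app (op i₀))) (op a)).symm) sj
    rw [bmap_app (c := c) a.2 ((χ a.1).f q) V sj]
    have hb' := (bd_restr_sub (vL (c := c) i₀ V) R (EtCoh.top _) q _ _).1 hb
    exact (congrArg (fun z => Bd (dsec R ((EtShriek.compEtale (vL (c := c) i₀ V)).obj (EtCoh.top _))) q
      (z - (trm R q).obj.map θ'.op s)) e).mp hb'

include haff hc hS hχ in
/-- A cocycle at a stage bounding on the limit bounds at a later stage. -/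
theorem exists_bd (τ : ∀ ⦃i j : ι⦄ (h : i ≤ j),
      (Ri i).cocomplex ⟶ ((EtCoh.push (uM Xs h)).mapHomologicalComplex (ComplexShape.up ℕ)).obj (Ri j).cocomplex)
    (hτ : ∀ ⦃i j : ι⦄ (h : i ≤ j), (Ri i).ι.f 0 ≫ (τ h).f 0 = S.t h ≫ (EtCoh.push (uM Xs h)).map ((Ri j).ι.f 0))
    (q : ℕ) (si : tsec (Ri i₀) V q) (hsi : dsec (Ri i₀) V q si = 0)
    (hb : Bd (dsec R ((EtCoh.bc (pr Xs c i₀)).obj V)) q (((χ i₀).f q).hom.app (op V) si)) :
    ∃ (j : ι) (h : i₀ ≤ j), Bd (dsec (Ri j) ((EtCoh.bc (uM Xs h)).obj V)) q (((τ h).f q).hom.app (op V) si) := by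
  haveI := fun a : After i₀ => (qcqs_Ys i₀ V haff a).1
  haveI := fun a : After i₀ => (qcqs_Ys i₀ V haff a).2
  let a₀ : After i₀ := ⟨i₀, le_rfl⟩
  let R' := restrRes (vL (c := c) i₀ V) R
  let Ri' := fun a : After i₀ => restrRes (vS i₀ V a) (Ri a.1)
  let χ' := fun a : After i₀ => restrChain (pr Xs c a.1) (vS i₀ V a) (pr (Ys i₀ V) (cY (c := c) i₀ V) a)
    (vL (c := c) i₀ V) (sq_lim i₀ V a) (χ a.1)
  let θ := θ₀ i₀ V
  let θ' := (θL (c := c) i₀ V).hom
  obtain ⟨b, h, hbd⟩ := exists_top_bd (isAffineHom_Ys i₀ V haff) (isLimit_cY i₀ V hc) (restrS i₀ V S)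
    (isLim_restrS i₀ V S hS) R' Ri' χ'
    (fun a => restrChain_zero (pr Xs c a.1) (vS i₀ V a) (pr (Ys i₀ V) (cY (c := c) i₀ V) a)
      (vL (c := c) i₀ V) (sq_lim i₀ V a) (χ a.1) (S.a a.1) (hχ a.1))
    (fun a b h => restrChain (uM Xs (h : a.1 ≤ b.1)) (vS i₀ V a) (uM (Ys i₀ V) h) (vS i₀ V b) (sq_map i₀ V h)
      (τ (h : a.1 ≤ b.1)))
    (fun a b h => restrChain_zero (uM Xs (h : a.1 ≤ b.1)) (vS i₀ V a) (uM (Ys i₀ V) h) (vS i₀ V b) (sq_map i₀ V h)
      (τ (h : a.1 ≤ b.1)) (S.t h) (hτ h))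
    q a₀ ((trm (Ri i₀) q).obj.map θ.op si) (by
      refine ((NatTrans.naturality_apply (HomologicalComplex.d (c := ComplexShape.up ℕ) (Ri i₀).cocomplex q (q + 1)).hom
        θ.op si).trans ?_)
      show (trm (Ri i₀) (q + 1)).obj.map θ.op (dsec (Ri i₀) V q si) = 0
      rw [hsi, map_zero]) (by
      have e := psec_restrChain (pr Xs c i₀) (vS i₀ V a₀) (pr (Ys i₀ V) (cY (c := c) i₀ V) a₀) (vL (c := c) i₀ V)
        (sq_lim i₀ V a₀) ((χ i₀).f q) (V := V) θ θ' (𝟙 _) (by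
          rw [θ₀_left, θL_left]
          refine (Category.id_comp _).trans ((Category.id_comp _).trans ?_)
          exact (Descend.pbCone_fst _ _ _ _ _ _ (op a₀)).symm) si
      rw [op_id, CategoryTheory.Functor.map_id] at e
      refine (congrArg (Bd _ q) e).mpr ?_
      exact (bd_map R θ' q _).2 hb)
  refine ⟨b.1, b.2, ?_⟩
  let θb := (θS i₀ V b).hom
  have e := psec_restrChain (uM Xs b.2) (vS i₀ V a₀) (uM (Ys i₀ V) h) (vS i₀ V b) (sq_map i₀ V h)
    ((τ b.2).f q) (V := V) θ θb (𝟙 _) (by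
      rw [θ₀_left, θS_left]
      refine (Category.id_comp _).trans ((Category.id_comp _).trans ?_)
      exact (Descend.pbMap_fst (afterFun i₀ ⋙ Xs) (toStage i₀) V.hom
        (show op b ⟶ op a₀ from (homOfLE h).op)).symm) si
  rw [op_id, CategoryTheory.Functor.map_id] at e
  rw [← bd_map (Ri b.1) θb q]
  exact (congrArg (Bd _ q) e).mp hbd

end Groth.Agent.StalkLim24
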