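import Groth.Agent.Lib.StalkLim24.SecColim
import Groth.Agent.Lib.StalkLim24.Mor

/-!
# Stalk cocycles of a direct image on a limit come from a stage
-/

set_option autoImplicit false
set_option linter.style.haveILetI false
set_option linter.unusedSectionVars false
set_option backward.isDefEq.respectTransparency false
set_option backward.isDefEq.respectTransparency.types false

universe u

open CategoryTheory CategoryTheory.Limits AlgebraicGeometry Opposite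

namespace Groth.Agent.StalkLim24

open Groth.Agent.EtStalk Groth.Agent.StalkCrit24 Groth.Agent.EtLim24

lemma qcqs_bc' {A B : Scheme.{u}} (g : A ⟶ B) [QuasiCompact g] [QuasiSeparated g] (U : B.Etale) [hU : CompactSpace U.left]
    [hU' : QuasiSeparatedSpace U.left] :
    CompactSpace ((EtCoh.bc g).obj U).left ∧ QuasiSeparatedSpace ((EtCoh.bc g).obj U).left := by
  haveI : CompactSpace ↥((𝟭 Scheme).obj U.left) := hU
  haveI : QuasiSeparatedSpace ↥((𝟭 Scheme).obj U.left) := hU'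
  haveI h₁ : QuasiCompact (pullback.fst U.hom g) :=
    MorphismProperty.pullback_fst (P := @QuasiCompact) U.hom g inferInstance
  haveI h₂ : QuasiSeparated (pullback.fst U.hom g) :=
    MorphismProperty.pullback_fst (P := @QuasiSeparated) U.hom g inferInstance
  have e₁ : CompactSpace ↥(pullback U.hom g) := QuasiCompact.compactSpace_of_compactSpace (pullback.fst U.hom g)
  have e₂ : QuasiSeparatedSpace ↥(pullback U.hom g) := quasiSeparatedSpace_of_quasiSeparated (pullback.fst U.hom g)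
  exact ⟨e₁, e₂⟩

variable {ι : Type u} [Preorder ι] [IsDirected ι (· ≤ ·)] [Nonempty ι]

section Nbhd

variable {Ss : ιᵒᵖ ⥤ Scheme.{u}} {cS : Cone Ss} (haff : ∀ ⦃a b : ιᵒᵖ⦄ (h : a ⟶ b), IsAffineHom (Ss.map h))
  (hc : IsLimit cS) {Ω : Type u} [Field Ω] [IsSepClosed Ω] (ξ : Spec (CommRingCat.of Ω) ⟶ cS.pt)

include haff hc in
/-- A neighbourhood on the limit is refined by one from a stage. -/
theorem exists_stage_nbhd {i : ι} (U₀ : (Ss.obj (op i)).Etale) [CompactSpace U₀.left] [QuasiSeparatedSpace U₀.left]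
    (V : cS.pt.Etale) (x : fib ξ V) (a₀ : V ⟶ (EtCoh.bc (pr Ss cS i)).obj U₀) :
    ∃ (j : ι) (h : i ≤ j) (U : (Ss.obj (op j)).Etale) (_ : CompactSpace U.left) (_ : QuasiSeparatedSpace U.left)
      (y : fib (ξ ≫ pr Ss cS j) U) (a : (EtCoh.bc (pr Ss cS j)).obj U ⟶ V) (f : U ⟶ (EtCoh.bc (uM Ss h)).obj U₀),
      (Scheme.pointSmallEtale ξ).fiber.map a (liftFib (pr Ss cS j) ξ y) = x ∧
        a.left ≫ a₀.left ≫ pullback.fst U₀.hom (pr Ss cS i) =
          pullback.fst U.hom (pr Ss cS j) ≫ f.left ≫ pullback.fst U₀.hom (uM Ss h) := by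
  obtain ⟨W, r, z, hW, hz⟩ := exists_affine_fib ξ V x
  haveI := hW
  haveI : CompactSpace W.left := inferInstance
  haveI : QuasiSeparatedSpace W.left := inferInstance
  obtain ⟨j, ⟨st⟩⟩ := exists_stg haff hc U₀ (r ≫ a₀)
  haveI := st.isIso_e
  haveI : IsAffine ((EtCoh.bc (pr Ss cS j)).obj st.V').left := IsAffine.of_isIso st.e.left
  haveI : CompactSpace ↥U₀.left := ‹_›
  haveI hq := qcqs_bc (Ss.map (homOfLE st.le).op) (haff _) U₀
  haveI := hq.1; haveI := hq.2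
  let z' : fib ξ ((EtCoh.bc (pr Ss cS j)).obj st.V') := Over.homMk (z.left ≫ inv st.e.left) (by
    show (z.left ≫ inv st.e.left) ≫ ((EtCoh.bc (pr Ss cS j)).obj st.V').hom = ξ
    rw [← MorphismProperty.Over.w st.e, Category.assoc, IsIso.inv_hom_id_assoc]
    exact Over.w z)
  have hz' : (Scheme.pointSmallEtale ξ).fiber.map st.e z' = z :=
    Over.OverMorphism.ext ((Category.assoc _ _ _).trans ((congrArg (z.left ≫ ·) (IsIso.inv_hom_id _)).trans
      (Category.comp_id _)))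
  let y : fib (ξ ≫ pr Ss cS j) st.V' := dropFib (pr Ss cS j) ξ z'
  obtain ⟨U, g, y', hU, hy'⟩ := exists_affine_fib (ξ ≫ pr Ss cS j) st.V' y
  haveI := hU
  refine ⟨j, st.le, U, inferInstance, inferInstance, y', (EtCoh.bc (pr Ss cS j)).map g ≫ st.e ≫ r, g ≫ st.f, ?_, ?_⟩
  · rw [FunctorToTypes.map_comp_apply, FunctorToTypes.map_comp_apply, map_liftFib, hy', liftFib_dropFib, hz', hz]
  · have hc' := st.comp
    rw [comp_left', Category.assoc] at hc'
    simp only [comp_left', Category.assoc] at hc' ⊢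
    rw [hc', ← Category.assoc ((EtCoh.bc (pr Ss cS j)).map g).left, EtBCQ24.map_fst (pr Ss cS j) g, Category.assoc]

include haff hc in
/-- A neighbourhood on the limit is refined by one from some stage. -/
theorem exists_some_nbhd (V : cS.pt.Etale) (x : fib ξ V) :
    ∃ (j : ι) (U : (Ss.obj (op j)).Etale) (_ : CompactSpace U.left) (_ : QuasiSeparatedSpace U.left)
      (y : fib (ξ ≫ pr Ss cS j) U) (a : (EtCoh.bc (pr Ss cS j)).obj U ⟶ V),
      (Scheme.pointSmallEtale ξ).fiber.map a (liftFib (pr Ss cS j) ξ y) = x := by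
  obtain ⟨i⟩ := ‹Nonempty ι›
  obtain ⟨U₀, -, y₀, hU₀, -⟩ := exists_affine_fib (ξ ≫ pr Ss cS i) (EtCoh.top (Ss.obj (op i)))
    (Over.homMk (ξ ≫ pr Ss cS i) (Category.comp_id _))
  haveI := hU₀
  obtain ⟨⟨P, zP⟩, ⟨a, ha⟩, ⟨b, -⟩, -⟩ :=
    IsCofilteredOrEmpty.cone_objs (C := (Scheme.pointSmallEtale ξ).fiber.Elements) ⟨V, x⟩
      ⟨(EtCoh.bc (pr Ss cS i)).obj U₀, liftFib (pr Ss cS i) ξ y₀⟩
  obtain ⟨j, -, U, hU, hU', y, a', -, h1, -⟩ := exists_stage_nbhd haff hc ξ U₀ P zP b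
  exact ⟨j, U, hU, hU', y, a' ≫ a, by rw [FunctorToTypes.map_comp_apply, h1]; exact ha⟩

end Nbhd

variable {Ts Ss : ιᵒᵖ ⥤ Scheme.{u}} (gN : Ts ⟶ Ss) [∀ a, QuasiCompact (gN.app a)] [∀ a, QuasiSeparated (gN.app a)]
  {cT : Cone Ts} {cS : Cone Ss} [∀ a, PreservesFiniteLimits (EtCoh.pull (cT.π.app a))]
  [∀ ⦃a b : ιᵒᵖ⦄ (h : a ⟶ b), PreservesFiniteLimits (EtCoh.pull (Ts.map h))]
  (haffT : ∀ ⦃a b : ιᵒᵖ⦄ (h : a ⟶ b), IsAffineHom (Ts.map h)) (hcT : IsLimit cT)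
  (haffS : ∀ ⦃a b : ιᵒᵖ⦄ (h : a ⟶ b), IsAffineHom (Ss.map h)) (hcS : IsLimit cS)
  (g : cT.pt ⟶ cS.pt) (hg : ∀ a, g ≫ cS.π.app a = cT.π.app a ≫ gN.app a)
  (S : Sys Ts cT) (hS : S.IsLim) (R : InjectiveResolution S.G) (Ri : ∀ i, InjectiveResolution (S.F i))
  (χ : ∀ i, (Ri i).cocomplex ⟶ ((EtCoh.push (pr Ts cT i)).mapHomologicalComplex (ComplexShape.up ℕ)).obj R.cocomplex)
  (hχ : ∀ i, (Ri i).ι.f 0 ≫ (χ i).f 0 = S.a i ≫ (EtCoh.push (pr Ts cT i)).map (R.ι.f 0))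
  {Ω : Type u} [Field Ω] [IsSepClosed Ω] (ξ : Spec (CommRingCat.of Ω) ⟶ cS.pt)

/-- From the stalk at a stage to the stalk at the limit. -/
noncomputable abbrev toLim (i : ι) (k : ℕ) :
    (EtCoh.stalk (ξ ≫ pr Ss cS i)).obj ((EtCoh.push (gN.app (op i))).obj (trm (Ri i) k)) →+
      (EtCoh.stalk ξ).obj ((EtCoh.push g).obj (trm R k)) :=
  mor (pr Ss cS i) (gN.app (op i)) g (pr Ts cT i) (hg (op i)).symm ξ (ξ ≫ pr Ss cS i) rfl ((χ i).f k)

include haffT hcT haffS hcS hS hχ in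
/-- A stalk cocycle on the limit comes from a stage. -/
theorem exists_stalk_cocycle (q : ℕ) (b : (EtCoh.stalk ξ).obj ((EtCoh.push g).obj (trm R q)))
    (hb : dst g R.cocomplex ξ q b = 0) :
    ∃ (j : ι) (a : (EtCoh.stalk (ξ ≫ pr Ss cS j)).obj ((EtCoh.push (gN.app (op j))).obj (trm (Ri j) q))),
      dst (gN.app (op j)) (Ri j).cocomplex (ξ ≫ pr Ss cS j) q a = 0 ∧
        Bd (dst g R.cocomplex ξ) q (toLim gN g hg S R Ri χ ξ j q a - b) := by
  obtain ⟨W, x, s, -, hs, rfl⟩ := exists_rep_zero ξ _ b hb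
  obtain ⟨j, U, hU, hU', y, a, hya⟩ := exists_some_nbhd haffS hcS ξ W x
  haveI := hU; haveI := hU'
  haveI := (qcqs_bc' (gN.app (op j)) U).1
  haveI := (qcqs_bc' (gN.app (op j)) U).2
  let W' := (EtCoh.bc g).obj ((EtCoh.bc (pr Ss cS j)).obj U)
  let V := (EtCoh.bc (gN.app (op j))).obj U
  let P := (EtCoh.bc (pr Ts cT j)).obj V
  let w := pr Ts cT j ≫ gN.app (op j)
  let toP : W' ⟶ P :=
    (bcc g (pr Ss cS j) w (hg (op j))).hom.app U ≫ (bcc (pr Ts cT j) (gN.app (op j)) w rfl).inv.app U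
  let fromP : P ⟶ W' :=
    (bcc (pr Ts cT j) (gN.app (op j)) w rfl).hom.app U ≫ (bcc g (pr Ss cS j) w (hg (op j))).inv.app U
  have htoP : toP.left ≫ pullback.fst V.hom (pr Ts cT j) ≫ pullback.fst U.hom (gN.app (op j)) =
      pullback.fst ((EtCoh.bc (pr Ss cS j)).obj U).hom g ≫ pullback.fst U.hom (pr Ss cS j) := by
    show (_ ≫ _) ≫ _ = _
    rw [Category.assoc]
    erw [bcc_inv_left_fst (pr Ts cT j) (gN.app (op j)) w rfl U]
    exact bcc_hom_left_fst g (pr Ss cS j) w (hg (op j)) U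
  have hfromP : fromP.left ≫ pullback.fst ((EtCoh.bc (pr Ss cS j)).obj U).hom g ≫ pullback.fst U.hom (pr Ss cS j) =
      pullback.fst V.hom (pr Ts cT j) ≫ pullback.fst U.hom (gN.app (op j)) := by
    show (_ ≫ _) ≫ _ = _
    rw [Category.assoc]
    erw [bcc_inv_left_fst g (pr Ss cS j) w (hg (op j)) U]
    exact bcc_hom_left_fst (pr Ts cT j) (gN.app (op j)) w rfl U
  have hinv : toP ≫ fromP = 𝟙 W' := bc_hom_ext₂ (by
    rw [comp_left', Category.assoc, hfromP, htoP]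
    exact (Category.id_comp _).symm)
  let s' : tsec R P q := (trm R q).obj.map (fromP ≫ (EtCoh.bc g).map a).op s
  have hs' : dsec R P q s' = 0 := by
    refine (NatTrans.naturality_apply (HomologicalComplex.d (c := ComplexShape.up ℕ) R.cocomplex q (q + 1)).hom
      (fromP ≫ (EtCoh.bc g).map a).op s).trans ?_
    exact (congrArg ((trm R (q + 1)).obj.map (fromP ≫ (EtCoh.bc g).map a).op) hs).trans (map_zero _)
  obtain ⟨l, hjl, sl, hsl, hbd⟩ := exists_cocycle j V haffT hcT S hS R Ri χ hχ q s' hs'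
  let U' := (EtCoh.bc (uM Ss hjl)).obj U
  let σ : (EtCoh.bc (gN.app (op l))).obj U' ⟶ (EtCoh.bc (uM Ts hjl)).obj V :=
    (bcc (gN.app (op l)) (uM Ss hjl) (uM Ts hjl ≫ gN.app (op j)) (gN.naturality _).symm).hom.app U ≫
      (bcc (uM Ts hjl) (gN.app (op j)) _ rfl).inv.app U
  have hσ : σ.left ≫ pullback.fst V.hom (uM Ts hjl) ≫ pullback.fst U.hom (gN.app (op j)) =
      pullback.fst U'.hom (gN.app (op l)) ≫ pullback.fst U.hom (uM Ss hjl) := by
    show (_ ≫ _) ≫ _ = _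
    rw [Category.assoc]
    erw [bcc_inv_left_fst (uM Ts hjl) (gN.app (op j)) _ rfl U]
    exact bcc_hom_left_fst (gN.app (op l)) (uM Ss hjl) _ _ U
  let al : tsec (Ri l) ((EtCoh.bc (gN.app (op l))).obj U') q := (trm (Ri l) q).obj.map σ.op sl
  have hal : dsec (Ri l) ((EtCoh.bc (gN.app (op l))).obj U') q al = 0 := by
    refine (NatTrans.naturality_apply (HomologicalComplex.d (c := ComplexShape.up ℕ) (Ri l).cocomplex q (q + 1)).hom
      σ.op sl).trans ?_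
    exact (congrArg ((trm (Ri l) (q + 1)).obj.map σ.op) hsl).trans (map_zero _)
  let yl : fib (ξ ≫ pr Ss cS l) U' := Over.homMk (pullback.lift y.left (ξ ≫ pr Ss cS l)
    ((Over.w y).trans ((congrArg (ξ ≫ ·) (pr_w hjl).symm).trans (Category.assoc _ _ _).symm))) (pullback.lift_snd _ _ _)
  refine ⟨l, germ (ξ ≫ pr Ss cS l) ((EtCoh.push (gN.app (op l))).obj (trm (Ri l) q)) yl al, ?_, ?_⟩
  · show (EtCoh.stalk _).map _ _ = 0
    rw [germ_nat]
    exact (congrArg _ hal).trans (map_zero _)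
  let a' : (EtCoh.bc (pr Ss cS j)).obj U ⟶ (EtCoh.bc (pr Ss cS l)).obj U' :=
    (bcc (pr Ss cS l) (uM Ss hjl) (pr Ss cS j) (pr_w hjl)).inv.app U
  have ha' : a'.left ≫ pullback.fst U'.hom (pr Ss cS l) ≫ pullback.fst U.hom (uM Ss hjl) =
      pullback.fst U.hom (pr Ss cS j) := bcc_inv_left_fst _ _ _ _ U
  let κ : W' ⟶ (EtCoh.bc (pr Ts cT l)).obj ((EtCoh.bc (gN.app (op l))).obj U') :=
    (EtCoh.bc g).map a' ≫ (bcc g (pr Ss cS l) _ (hg (op l))).hom.app U' ≫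
      (bcc (pr Ts cT l) (gN.app (op l)) _ rfl).inv.app U'
  have hκ : κ.left ≫ pullback.fst ((EtCoh.bc (gN.app (op l))).obj U').hom (pr Ts cT l) ≫
      pullback.fst U'.hom (gN.app (op l)) =
      pullback.fst ((EtCoh.bc (pr Ss cS j)).obj U).hom g ≫ a'.left ≫ pullback.fst U'.hom (pr Ss cS l) := by
    show (_ ≫ _ ≫ _) ≫ _ = _
    simp only [Category.assoc]
    erw [bcc_inv_left_fst (pr Ts cT l) (gN.app (op l)) _ rfl U']
    erw [bcc_hom_left_fst g (pr Ss cS l) _ (hg (op l)) U']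
    rw [← Category.assoc ((EtCoh.bc g).map a').left, EtBCQ24.map_fst g a', Category.assoc]
  have hx' : ((liftFib (pr Ss cS j) ξ y).left ≫ a'.left) ≫ pullback.fst U'.hom (pr Ss cS l) = yl.left := by
    refine pullback.hom_ext ?_ ?_
    · simp only [Category.assoc]
      rw [ha']
      exact (pullback.lift_fst _ _ _).trans (pullback.lift_fst _ _ _).symm
    · refine Eq.trans ?_ (pullback.lift_snd _ _ _).symm
      have e1 : (a'.left ≫ pullback.fst U'.hom (pr Ss cS l)) ≫ U'.hom =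
          ((EtCoh.bc (pr Ss cS j)).obj U).hom ≫ pr Ss cS l := left_fst_hom a'
      have e2 : (liftFib (pr Ss cS j) ξ y).left ≫ ((EtCoh.bc (pr Ss cS j)).obj U).hom = ξ :=
        Over.w (liftFib (pr Ss cS j) ξ y)
      show (((liftFib (pr Ss cS j) ξ y).left ≫ a'.left) ≫ pullback.fst U'.hom (pr Ss cS l)) ≫ U'.hom = ξ ≫ pr Ss cS l
      rw [Category.assoc (liftFib (pr Ss cS j) ξ y).left, Category.assoc (liftFib (pr Ss cS j) ξ y).left, e1,
        ← Category.assoc, e2]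
  have hgb : germ ξ ((EtCoh.push g).obj (trm R q)) x s =
      germ ξ ((EtCoh.push g).obj (trm R q)) (liftFib (pr Ss cS j) ξ y) ((trm R q).obj.map toP.op s') := by
    rw [← hya, ← germ_map]
    refine congrArg _ ?_
    show _ = (trm R q).obj.map toP.op ((trm R q).obj.map (fromP ≫ (EtCoh.bc g).map a).op s)
    rw [← Functor.map_comp_apply, ← op_comp, ← Category.assoc, hinv, Category.id_comp]
    rfl
  have hκσ : mv ((χ l).f q) κ al = (trm R q).obj.map toP.op ((bmap hjl ((χ l).f q)).hom.app (op V) sl) := by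
    rw [bmap_app (c := cT) hjl ((χ l).f q) V sl, mv_map]
    show mv _ _ sl = (trm R q).obj.map toP.op (mv ((χ l).f q) _ sl)
    rw [map_mv]
    refine congrArg (fun r => mv ((χ l).f q) r sl) (bc_hom_ext₃ ?_)
    simp only [comp_left', Category.assoc]
    erw [bcc_inv_left_fst (pr Ts cT l) (uM Ts hjl) (pr Ts cT j) (pr_w hjl) V |> fun e => reassoc_of% e]
    rw [htoP]
    rw [← Category.assoc ((EtCoh.bc (pr Ts cT l)).map σ).left, EtBCQ24.map_fst (pr Ts cT l) σ, Category.assoc, hσ]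
    rw [reassoc_of% hκ, ha']
  rw [toLim, mor_germ (pr Ss cS l) (gN.app (op l)) g (pr Ts cT l) (hg (op l)).symm ξ (ξ ≫ pr Ss cS l) rfl ((χ l).f q)
    yl al (liftFib (pr Ss cS j) ξ y) a' hx' κ hκ, hgb, hκσ]
  have hB : Bd (dsec R W') q ((trm R q).obj.map toP.op
      ((show tsec R P q from (bmap hjl ((χ l).f q)).hom.app (op V) sl) - s')) :=
    bd_map_hom (fun k => ((trm R k).obj.map toP.op).hom)
      (fun k z => NatTrans.naturality_apply (HomologicalComplex.d (c := ComplexShape.up ℕ) R.cocomplex k (k + 1)).hom toP.op z) hbd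
  rw [map_sub] at hB
  rw [← map_sub]
  exact bd_germ ξ (fun k => (EtCoh.push g).obj (trm R k))
    (fun k => (EtCoh.push g).map (HomologicalComplex.d (c := ComplexShape.up ℕ) R.cocomplex k (k + 1)))
    (liftFib (pr Ss cS j) ξ y) q _ hB

variable (τ : ∀ ⦃i j : ι⦄ (h : i ≤ j),
      (Ri i).cocomplex ⟶ ((EtCoh.push (uM Ts h)).mapHomologicalComplex (ComplexShape.up ℕ)).obj (Ri j).cocomplex)
  (hτ : ∀ ⦃i j : ι⦄ (h : i ≤ j), (Ri i).ι.f 0 ≫ (τ h).f 0 = S.t h ≫ (EtCoh.push (uM Ts h)).map ((Ri j).ι.f 0))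

/-- From the stalk at a stage to the stalk at a later stage. -/
noncomputable abbrev toStg {i j : ι} (h : i ≤ j) (k : ℕ) :
    (EtCoh.stalk (ξ ≫ pr Ss cS i)).obj ((EtCoh.push (gN.app (op i))).obj (trm (Ri i) k)) →+
      (EtCoh.stalk (ξ ≫ pr Ss cS j)).obj ((EtCoh.push (gN.app (op j))).obj (trm (Ri j) k)) :=
  mor (uM Ss h) (gN.app (op i)) (gN.app (op j)) (uM Ts h) (gN.naturality _) (ξ ≫ pr Ss cS j) (ξ ≫ pr Ss cS i)
    ((Category.assoc _ _ _).trans (congrArg (ξ ≫ ·) (pr_w h))) ((τ h).f k)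

include hτ in
lemma comp_aug {i j k : ι} (h₁ : i ≤ j) (h₂ : j ≤ k) :
    (Ri i).ι.f 0 ≫ (τ (h₁.trans h₂)).f 0 = (Ri i).ι.f 0 ≫ (τ h₁).f 0 ≫ (EtCoh.push (uM Ts h₁)).map ((τ h₂).f 0) ≫
      (pc (uM Ts h₂) (uM Ts h₁) _ (uM_comp h₁ h₂)).hom.app ((Ri k).cocomplex.X 0) := by
  rw [hτ, S.cocycle h₁ h₂, ← Category.assoc ((Ri i).ι.f 0), hτ h₁]
  simp only [Category.assoc, tcomp]
  rw [← Functor.map_comp_assoc, hτ h₂, Functor.map_comp_assoc]
  refine congrArg (fun z => S.t h₁ ≫ (EtCoh.push (uM Ts h₁)).map (S.t h₂) ≫ z) ?_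
  exact ((pc (uM Ts h₂) (uM Ts h₁) _ (uM_comp h₁ h₂)).hom.naturality ((Ri k).ι.f 0)).symm

include hχ hτ in
lemma lim_aug {i j : ι} (h : i ≤ j) :
    (Ri i).ι.f 0 ≫ (χ i).f 0 = (Ri i).ι.f 0 ≫ (τ h).f 0 ≫ (EtCoh.push (uM Ts h)).map ((χ j).f 0) ≫
      (pc (pr Ts cT j) (uM Ts h) (pr Ts cT i) (pr_w h)).hom.app (R.cocomplex.X 0) := by
  rw [hχ, ← S.fac h, ← Category.assoc ((Ri i).ι.f 0), hτ h]
  simp only [Category.assoc, bmap]
  rw [← Functor.map_comp_assoc, hχ j, Functor.map_comp_assoc]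
  refine congrArg (fun z => S.t h ≫ (EtCoh.push (uM Ts h)).map (S.a j) ≫ z) ?_
  exact ((pc (pr Ts cT j) (uM Ts h) (pr Ts cT i) (pr_w h)).hom.naturality (R.ι.f 0)).symm

include haffT hcT haffS hcS hS hχ hτ in
/-- A stalk cocycle at a stage bounding on the limit bounds at a later stage. -/
theorem exists_stalk_bd (q : ℕ) (i : ι)
    (a : (EtCoh.stalk (ξ ≫ pr Ss cS i)).obj ((EtCoh.push (gN.app (op i))).obj (trm (Ri i) q)))
    (ha : dst (gN.app (op i)) (Ri i).cocomplex (ξ ≫ pr Ss cS i) q a = 0)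
    (hb : Bd (dst g R.cocomplex ξ) q (toLim gN g hg S R Ri χ ξ i q a)) :
    ∃ (j : ι) (h : i ≤ j), Bd (dst (gN.app (op j)) (Ri j).cocomplex (ξ ≫ pr Ss cS j)) q
      (toStg gN S Ri ξ τ h q a) := by
  obtain ⟨V₀, x, s, hV₀, hs, rfl⟩ := exists_rep_zero (ξ ≫ pr Ss cS i) _ a ha
  haveI := hV₀
  haveI : CompactSpace V₀.left := inferInstance
  haveI : QuasiSeparatedSpace V₀.left := inferInstance
  let W₀ := (EtCoh.bc (pr Ss cS i)).obj V₀
  let κ₀ : (EtCoh.bc g).obj W₀ ⟶ (EtCoh.bc (pr Ts cT i)).obj ((EtCoh.bc (gN.app (op i))).obj V₀) :=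
    (bcc g (pr Ss cS i) _ (hg (op i))).hom.app V₀ ≫ (bcc (pr Ts cT i) (gN.app (op i)) _ rfl).inv.app V₀
  have hκ₀ : κ₀.left ≫ pullback.fst ((EtCoh.bc (gN.app (op i))).obj V₀).hom (pr Ts cT i) ≫
      pullback.fst V₀.hom (gN.app (op i)) = pullback.fst W₀.hom g ≫ pullback.fst V₀.hom (pr Ss cS i) := by
    show (_ ≫ _) ≫ _ = _
    rw [Category.assoc]
    erw [bcc_inv_left_fst (pr Ts cT i) (gN.app (op i)) _ rfl V₀]
    exact bcc_hom_left_fst g (pr Ss cS i) _ (hg (op i)) V₀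
  rw [toLim, mor_germ (pr Ss cS i) (gN.app (op i)) g (pr Ts cT i) (hg (op i)).symm ξ (ξ ≫ pr Ss cS i) rfl ((χ i).f q)
    x s (liftFib (pr Ss cS i) ξ x) (𝟙 _)
    ((congrArg (· ≫ pullback.fst V₀.hom (pr Ss cS i)) (Category.comp_id _)).trans (pullback.lift_fst _ _ _)) κ₀
    (hκ₀.trans (congrArg (_ ≫ ·) (Category.id_comp _).symm))] at hb
  obtain ⟨W, r, z, -, hrz, hbW⟩ := exists_bd_of_germ ξ (fun k => (EtCoh.push g).obj (trm R k))
    (fun k => (EtCoh.push g).map (HomologicalComplex.d (c := ComplexShape.up ℕ) R.cocomplex k (k + 1)))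
    (liftFib (pr Ss cS i) ξ x) q _ hb
  obtain ⟨j, hij, U, hU, hU', y, a, f, hay, haf⟩ := exists_stage_nbhd haffS hcS ξ V₀ W z r
  haveI := hU; haveI := hU'
  haveI := (qcqs_bc' (gN.app (op j)) U).1
  haveI := (qcqs_bc' (gN.app (op j)) U).2
  let V := (EtCoh.bc (gN.app (op j))).obj U
  let κ₁ : V ⟶ (EtCoh.bc (uM Ts hij)).obj ((EtCoh.bc (gN.app (op i))).obj V₀) :=
    (EtCoh.bc (gN.app (op j))).map f ≫
      (bcc (gN.app (op j)) (uM Ss hij) (uM Ts hij ≫ gN.app (op i)) (gN.naturality _).symm).hom.app V₀ ≫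
      (bcc (uM Ts hij) (gN.app (op i)) _ rfl).inv.app V₀
  have hκ₁ : κ₁.left ≫ pullback.fst ((EtCoh.bc (gN.app (op i))).obj V₀).hom (uM Ts hij) ≫
      pullback.fst V₀.hom (gN.app (op i)) =
      pullback.fst U.hom (gN.app (op j)) ≫ f.left ≫ pullback.fst V₀.hom (uM Ss hij) := by
    show (_ ≫ _ ≫ _) ≫ _ = _
    simp only [Category.assoc]
    erw [bcc_inv_left_fst (uM Ts hij) (gN.app (op i)) _ rfl V₀]
    erw [bcc_hom_left_fst (gN.app (op j)) (uM Ss hij) _ _ V₀]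
    rw [← Category.assoc ((EtCoh.bc (gN.app (op j))).map f).left, EtBCQ24.map_fst (gN.app (op j)) f, Category.assoc]
  let s₁ : tsec (Ri j) V q := mv ((τ hij).f q) κ₁ s
  have hs₁ : dsec (Ri j) V q s₁ = 0 := by
    show ((Ri j).cocomplex.d q (q + 1)).hom.app (op V) (mv ((τ hij).f q) κ₁ s) = 0
    rw [mv_nat]
    refine (congrArg (fun m => mv m κ₁ s) ((τ hij).comm q (q + 1))).trans ?_
    exact (congrArg (mv ((τ hij).f (q + 1)) κ₁) hs).trans (map_zero _)
  let P := (EtCoh.bc (pr Ts cT j)).obj V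
  let w := pr Ts cT j ≫ gN.app (op j)
  let fromP : P ⟶ (EtCoh.bc g).obj ((EtCoh.bc (pr Ss cS j)).obj U) :=
    (bcc (pr Ts cT j) (gN.app (op j)) w rfl).hom.app U ≫ (bcc g (pr Ss cS j) w (hg (op j))).inv.app U
  have hfromP : fromP.left ≫ pullback.fst ((EtCoh.bc (pr Ss cS j)).obj U).hom g ≫ pullback.fst U.hom (pr Ss cS j) =
      pullback.fst V.hom (pr Ts cT j) ≫ pullback.fst U.hom (gN.app (op j)) := by
    show (_ ≫ _) ≫ _ = _
    rw [Category.assoc]
    erw [bcc_inv_left_fst g (pr Ss cS j) w (hg (op j)) U]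
    exact bcc_hom_left_fst (pr Ts cT j) (gN.app (op j)) w rfl U
  let κc : P ⟶ (EtCoh.bc (pr Ts cT i)).obj ((EtCoh.bc (gN.app (op i))).obj V₀) :=
    (EtCoh.bc (pr Ts cT j)).map κ₁ ≫ (bcc (pr Ts cT j) (uM Ts hij) (pr Ts cT i) (pr_w hij)).hom.app _
  have hκc : κc.left ≫ pullback.fst ((EtCoh.bc (gN.app (op i))).obj V₀).hom (pr Ts cT i) =
      pullback.fst V.hom (pr Ts cT j) ≫ κ₁.left ≫ pullback.fst ((EtCoh.bc (gN.app (op i))).obj V₀).hom (uM Ts hij) := by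
    show (_ ≫ _) ≫ _ = _
    rw [Category.assoc]
    refine (congrArg (((EtCoh.bc (pr Ts cT j)).map κ₁).left ≫ ·)
      (bcc_hom_left_fst (pr Ts cT j) (uM Ts hij) (pr Ts cT i) (pr_w hij) ((EtCoh.bc (gN.app (op i))).obj V₀))).trans ?_
    rw [← Category.assoc, EtBCQ24.map_fst (pr Ts cT j) κ₁, Category.assoc]
  have h1 : Bd (dsec R P) q (mv ((χ i).f q) κc s) := by
    have hP : Bd (dsec R P) q ((trm R q).obj.map (fromP ≫ (EtCoh.bc g).map a).op
        ((trm R q).obj.map ((EtCoh.bc g).map r).op (mv ((χ i).f q) κ₀ s))) :=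
      bd_map_hom (d := fun k => (((EtCoh.push g).map
          (HomologicalComplex.d (c := ComplexShape.up ℕ) R.cocomplex k (k + 1))).hom.app (op W)).hom)
        (fun k => ((trm R k).obj.map (fromP ≫ (EtCoh.bc g).map a).op).hom)
        (fun k v => NatTrans.naturality_apply (HomologicalComplex.d (c := ComplexShape.up ℕ) R.cocomplex k (k + 1)).hom
          (fromP ≫ (EtCoh.bc g).map a).op v) hbW
    rw [map_mv, map_mv] at hP
    refine (congrArg (fun r => Bd (dsec R P) q (mv ((χ i).f q) r s)) (bc_hom_ext₂ ?_)).mp hP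
    simp only [comp_left', Category.assoc]
    rw [hκ₀, reassoc_of% hκc, hκ₁, ← Category.assoc ((EtCoh.bc g).map r).left, EtBCQ24.map_fst g r]
    simp only [Category.assoc]
    rw [← Category.assoc ((EtCoh.bc g).map a).left, EtBCQ24.map_fst g a]
    simp only [Category.assoc]
    rw [haf, ← Category.assoc (pullback.fst _ g), ← Category.assoc fromP.left, hfromP, Category.assoc]
  have h2 : Bd (dsec R P) q (mv ((χ j).f q) (𝟙 _) s₁) := by
    haveI : ∀ k, Injective ((((EtCoh.push (pr Ts cT i)).mapHomologicalComplex (ComplexShape.up ℕ)).obj R.cocomplex).X k) :=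
      fun k =>
        haveI := R.injective k
        injective_push (pr Ts cT i) (R.cocomplex.X k)
    obtain ⟨H⟩ := EtBCQ24.nonempty_homotopy (Ri i).cocomplex (Ri i).ι
      (((EtCoh.push (pr Ts cT i)).mapHomologicalComplex (ComplexShape.up ℕ)).obj R.cocomplex)
      (compChain (uM Ts hij) (pr Ts cT j) (pr Ts cT i) (pr_w hij) (τ hij) (χ j)) (χ i)
      (lim_aug S R Ri χ hχ τ hτ hij).symm
    rw [mv_mv (pr_w hij) ((τ hij).f q) ((χ j).f q) κ₁ (𝟙 _) κc (by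
      rw [hκc]
      exact congrArg (· ≫ _) (Category.id_comp _).symm) s]
    have h3 := bd_mv_of_homotopy H κc q s hs
    have h4 := bd_add h3 h1
    rwa [sub_add_cancel] at h4
  obtain ⟨l, hjl, hbl⟩ := exists_bd j V haffT hcT S hS R Ri χ hχ τ hτ q s₁ hs₁ (by
    refine (congrArg (fun z => Bd (dsec R P) q z) ?_).mp h2
    show (trm R q).obj.map (𝟙 P : P ⟶ P).op (((χ j).f q).hom.app (op V) s₁) = _
    rw [op_id, CategoryTheory.Functor.map_id]
    rfl)
  refine ⟨l, hij.trans hjl, ?_⟩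
  let U' := (EtCoh.bc (uM Ss hjl)).obj U
  let σ : (EtCoh.bc (gN.app (op l))).obj U' ⟶ (EtCoh.bc (uM Ts hjl)).obj V :=
    (bcc (gN.app (op l)) (uM Ss hjl) (uM Ts hjl ≫ gN.app (op j)) (gN.naturality _).symm).hom.app U ≫
      (bcc (uM Ts hjl) (gN.app (op j)) _ rfl).inv.app U
  have hσ : σ.left ≫ pullback.fst V.hom (uM Ts hjl) ≫ pullback.fst U.hom (gN.app (op j)) =
      pullback.fst U'.hom (gN.app (op l)) ≫ pullback.fst U.hom (uM Ss hjl) := by
    show (_ ≫ _) ≫ _ = _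
    rw [Category.assoc]
    erw [bcc_inv_left_fst (uM Ts hjl) (gN.app (op j)) _ rfl U]
    exact bcc_hom_left_fst (gN.app (op l)) (uM Ss hjl) _ _ U
  let yl : fib (ξ ≫ pr Ss cS l) U' := Over.homMk (pullback.lift y.left (ξ ≫ pr Ss cS l)
    ((Over.w y).trans ((congrArg (ξ ≫ ·) (pr_w hjl).symm).trans (Category.assoc _ _ _).symm))) (pullback.lift_snd _ _ _)
  have hx1 : (y.left ≫ f.left) ≫ pullback.fst V₀.hom (uM Ss hij) = x.left := by
    have e1 := congrArg (fun t : fib ξ W₀ => t.left ≫ pullback.fst V₀.hom (pr Ss cS i)) hrz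
    have e2 := congrArg (fun t : fib ξ W => t.left ≫ r.left ≫ pullback.fst V₀.hom (pr Ss cS i)) hay
    simp only [map_fib_left, Category.assoc] at e1 e2
    refine Eq.trans ?_ ((e2.trans e1).trans (pullback.lift_fst _ _ _))
    rw [haf, Category.assoc]
    exact (congrArg (· ≫ _) (pullback.lift_fst _ _ _).symm).trans (Category.assoc _ _ _)
  have hT := bd_mor_comp (uM Ss hij) (uM Ss hjl) (uM Ss (hij.trans hjl)) (uM_comp hij hjl) (gN.app (op i))
    (gN.app (op j)) (gN.app (op l)) (uM Ts hij) (uM Ts hjl) (uM Ts (hij.trans hjl)) (uM_comp hij hjl)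
    (gN.naturality _) (gN.naturality _) (gN.naturality _) (τ hij) (τ hjl) (τ (hij.trans hjl))
    (comp_aug S Ri τ hτ hij hjl) (ξ ≫ pr Ss cS i) (ξ ≫ pr Ss cS j) (ξ ≫ pr Ss cS l)
    ((Category.assoc _ _ _).trans (congrArg (ξ ≫ ·) (pr_w hij)))
    ((Category.assoc _ _ _).trans (congrArg (ξ ≫ ·) (pr_w hjl)))
    ((Category.assoc _ _ _).trans (congrArg (ξ ≫ ·) (pr_w (hij.trans hjl)))) q _ ha
  rw [mor_germ (uM Ss hij) (gN.app (op i)) (gN.app (op j)) (uM Ts hij) _ _ _ _ ((τ hij).f q) x s y f hx1 κ₁ hκ₁,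
    mor_germ (uM Ss hjl) (gN.app (op j)) (gN.app (op l)) (uM Ts hjl) _ _ _ _ ((τ hjl).f q) y _ yl (𝟙 _)
      ((congrArg (· ≫ pullback.fst U.hom (uM Ss hjl)) (Category.comp_id _)).trans (pullback.lift_fst _ _ _)) σ
      (hσ.trans (congrArg (_ ≫ ·) (Category.id_comp _).symm))] at hT
  have hl : Bd (dst (gN.app (op l)) (Ri l).cocomplex (ξ ≫ pr Ss cS l)) q
      (germ (ξ ≫ pr Ss cS l) ((EtCoh.push (gN.app (op l))).obj (trm (Ri l) q)) yl (mv ((τ hjl).f q) σ s₁)) :=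
    bd_germ (ξ ≫ pr Ss cS l) (fun k => (EtCoh.push (gN.app (op l))).obj (trm (Ri l) k))
      (fun k => (EtCoh.push (gN.app (op l))).map (HomologicalComplex.d (c := ComplexShape.up ℕ) (Ri l).cocomplex k (k + 1)))
      yl q _ (bd_map_hom (d := dsec (Ri l) ((EtCoh.bc (uM Ts hjl)).obj V)) (fun k => ((trm (Ri l) k).obj.map σ.op).hom)
        (fun k v => NatTrans.naturality_apply (HomologicalComplex.d (c := ComplexShape.up ℕ) (Ri l).cocomplex k (k + 1)).hom σ.op v)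
        hbl)
  have h5 := bd_sub hl hT
  rwa [sub_sub_cancel] at h5

end Groth.Agent.StalkLim24
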