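import Groth.Agent.Lib.StalkLim24.TopCoc

/-!
# Global cocycles on a limit come from a stage
-/

set_option autoImplicit false
set_option linter.style.haveILetI false
set_option linter.unusedSectionVars false
set_option backward.isDefEq.respectTransparency false
set_option backward.isDefEq.respectTransparency.types false

universe u

open CategoryTheory CategoryTheory.Limits AlgebraicGeometry Opposite CategoryTheory.Abelian

namespace Groth.Agent.StalkLim24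

open Groth.Agent.EtStalk Groth.Agent.StrictLim24 Groth.Agent.StalkCrit24 Groth.Agent.EtLim24

variable {ι : Type u} [Preorder ι] [IsDirected ι (· ≤ ·)] [Nonempty ι] {Xs : ιᵒᵖ ⥤ Scheme.{u}} {c : Cone Xs}
  [∀ i : ι, CompactSpace ↥(Xs.obj (op i))] [∀ i : ι, QuasiSeparatedSpace ↥(Xs.obj (op i))]
  (haff : ∀ ⦃a b : ιᵒᵖ⦄ (h : a ⟶ b), IsAffineHom (Xs.map h)) (hc : IsLimit c) (S : Sys Xs c) (hS : S.IsLim)
  (R : InjectiveResolution S.G) (Ri : ∀ i, InjectiveResolution (S.F i))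
  (χ : ∀ i, (Ri i).cocomplex ⟶ ((EtCoh.push (pr Xs c i)).mapHomologicalComplex (ComplexShape.up ℕ)).obj R.cocomplex)
  (hχ : ∀ i, (Ri i).ι.f 0 ≫ (χ i).f 0 = S.a i ≫ (EtCoh.push (pr Xs c i)).map (R.ι.f 0))

include haff hc hS hχ in
/-- A global cocycle on the limit is, up to coboundary, the image of a cocycle at a stage. -/
theorem exists_top_cocycle (q : ℕ) (s : tsec R (EtCoh.top c.pt) q) (hs : dsec R (EtCoh.top c.pt) q s = 0) :
    ∃ (j : ι) (sj : tsec (Ri j) (EtCoh.top (Xs.obj (op j))) q), dsec (Ri j) (EtCoh.top (Xs.obj (op j))) q sj = 0 ∧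
      Bd (dsec R (EtCoh.top c.pt)) q (psec (pr Xs c j) ((χ j).f q) sj - s) := by
  obtain ⟨ξ, hξ⟩ := exists_class (R := R) q s hs
  obtain ⟨j, x, hx⟩ := (limit_good haff hc S hS q).1 ξ
  obtain ⟨sj, hsj, hr⟩ := exists_repr (R := Ri j) q x
  refine ⟨j, sj, hsj, (repr_zero_iff (repr_sub (repr_push (pr Xs c j) (S.a j) (χ j) (hχ j) hr) hξ)).1 ?_⟩
  exact sub_eq_zero.2 hx

include haff hc hS hχ in
/-- A cocycle at a stage bounding on the limit bounds at a later stage. -/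
theorem exists_top_bd (τ : ∀ ⦃i j : ι⦄ (h : i ≤ j),
      (Ri i).cocomplex ⟶ ((EtCoh.push (uM Xs h)).mapHomologicalComplex (ComplexShape.up ℕ)).obj (Ri j).cocomplex)
    (hτ : ∀ ⦃i j : ι⦄ (h : i ≤ j), (Ri i).ι.f 0 ≫ (τ h).f 0 = S.t h ≫ (EtCoh.push (uM Xs h)).map ((Ri j).ι.f 0))
    (q : ℕ) (i : ι) (si : tsec (Ri i) (EtCoh.top (Xs.obj (op i))) q)
    (hsi : dsec (Ri i) (EtCoh.top (Xs.obj (op i))) q si = 0)
    (hb : Bd (dsec R (EtCoh.top c.pt)) q (psec (pr Xs c i) ((χ i).f q) si)) :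
    ∃ (j : ι) (h : i ≤ j), Bd (dsec (Ri j) (EtCoh.top (Xs.obj (op j)))) q (psec (uM Xs h) ((τ h).f q) si) := by
  obtain ⟨x, hx⟩ := exists_class (R := Ri i) q si hsi
  obtain ⟨j, h, hj⟩ := (limit_good haff hc S hS q).2 i x
    ((repr_zero_iff (repr_push (pr Xs c i) (S.a i) (χ i) (hχ i) hx)).2 hb)
  exact ⟨j, h, (repr_zero_iff (repr_push (uM Xs h) (S.t h) (τ h) (hτ h) hx)).1 hj⟩

end Groth.Agent.StalkLim24
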